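import Cfsg.Agent.Lib.Components.FStar
import Cfsg.Agent.Lib.Solvable.Fitting
import Mathlib.GroupTheory.Nilpotent
import Mathlib.GroupTheory.PGroup
import Mathlib.GroupTheory.IsSubnormal

/-!
Subnormal subgroups inside subgroups of a fixed group, as needed for the Thompson–Wielandt theorem:
Wielandt's lemma on `p'`-generated subnormal subgroups, cores and layers of subgroups.
-/

namespace Cfsg.Agent.TW

open Subgroup

variable {G : Type*} [Group G]

/-- `X` is a subnormal subgroup of `A`. -/
def SubnormalIn (X A : Subgroup G) : Prop := X ≤ A ∧ (X.subgroupOf A).IsSubnormal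

theorem SubnormalIn.of_normalizes {X A : Subgroup G} (h : X ≤ A)
    (hn : A ≤ normalizer (X : Set G)) : SubnormalIn X A :=
  ⟨h, ((normal_subgroupOf_iff_le_normalizer h).2 hn).isSubnormal⟩

theorem SubnormalIn.restrict {X A B : Subgroup G} (h : SubnormalIn X A) (hXB : X ≤ B) (hBA : B ≤ A) :
    SubnormalIn X B := by
  refine ⟨hXB, ?_⟩
  have e : X.subgroupOf B = (X.subgroupOf A).comap (inclusion hBA) := by
    ext x
    simp [mem_subgroupOf]
  rw [e]
  exact IsSubnormal.comap _ h.2

theorem SubnormalIn.trans {X B A : Subgroup G} (h₁ : SubnormalIn X B) (h₂ : SubnormalIn B A) :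
    SubnormalIn X A := by
  refine ⟨h₁.1.trans h₂.1, ?_⟩
  refine IsSubnormal.trans (K := B.subgroupOf A) (fun x hx => h₁.1 hx) ?_ h₂.2
  have e : (X.subgroupOf A).subgroupOf (B.subgroupOf A) =
      (X.subgroupOf B).comap (subgroupOfEquivOfLe h₂.1).toMonoidHom := by
    ext x
    simp [mem_subgroupOf]
  rw [e]
  exact IsSubnormal.comap _ h₁.2

theorem normalizer_subgroupOf_le {X A : Subgroup G} (h : X ≤ A) {Y : Subgroup A}
    (hY : Y ≤ normalizer ((X.subgroupOf A : Subgroup A) : Set A)) :
    Y.map A.subtype ≤ normalizer (X : Set G) := by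
  refine (map_mono hY).trans ((le_normalizer_map _).trans (le_of_eq ?_))
  rw [map_subgroupOf_eq_of_le h]

/-- The subgroup generated by the elements of `S` of order prime to `p`. -/
def pPart (p : ℕ) (S : Subgroup G) : Subgroup G := closure {x | x ∈ S ∧ (orderOf x).Coprime p}

theorem pPart_le (p : ℕ) (S : Subgroup G) : pPart p S ≤ S :=
  (closure_le _).2 fun _ hx => hx.1

/-- In a subnormal subgroup of a join with a normal `p`-group all `p'`-elements lie. -/
theorem mem_of_coprime_mem_sup [Finite G] {p : ℕ} {S X : Subgroup G} (hS : S.IsSubnormal)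
    [X.Normal] (hX : IsPGroup p X) {y : G} (hy : y ∈ S ⊔ X) (hc : (orderOf y).Coprime p) :
    y ∈ S := by
  induction hS with
  | top => trivial
  | step H K hle _ hN ih =>
    have hyK : y ∈ K := ih ((sup_le_sup_right hle X : H ⊔ X ≤ K ⊔ X) hy)
    rw [Subgroup.mem_sup_of_normal_right] at hy
    obtain ⟨s, hs, x, hx, rfl⟩ := hy
    have hxK : x ∈ K := by simpa using K.mul_mem (K.inv_mem (hle hs)) hyK
    let q := QuotientGroup.mk' (H.subgroupOf K)
    have he : q ⟨s * x, hyK⟩ = q ⟨x, hxK⟩ := by
      have : (⟨s * x, hyK⟩ : K) = ⟨s, hle hs⟩ * ⟨x, hxK⟩ := rfl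
      rw [this, map_mul]
      have h1 : q ⟨s, hle hs⟩ = 1 := (QuotientGroup.eq_one_iff _).2 hs
      rw [h1, one_mul]
    have h1 : q ⟨s * x, hyK⟩ = 1 := by
      obtain ⟨k, hk⟩ := hX ⟨x, hx⟩
      have hk' : x ^ p ^ k = 1 := congrArg Subtype.val hk
      have hd1 : orderOf (q ⟨s * x, hyK⟩) ∣ orderOf (s * x) :=
        (orderOf_map_dvd q _).trans (Subgroup.orderOf_mk _ _).dvd
      have hd2 : orderOf (q ⟨s * x, hyK⟩) ∣ p ^ k := by
        rw [he]
        refine (orderOf_map_dvd q _).trans ?_
        rw [Subgroup.orderOf_mk]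
        exact orderOf_dvd_of_pow_eq_one hk'
      exact orderOf_eq_one_iff.1 (Nat.eq_one_of_dvd_coprimes (hc.pow_right k) hd1 hd2)
    exact (QuotientGroup.eq_one_iff (N := H.subgroupOf K) (⟨s * x, hyK⟩ : K)).1 h1

/-- A normal `p`-subgroup normalises the `p'`-generated part of every subnormal subgroup. -/
theorem le_normalizer_pPart [Finite G] {p : ℕ} {S X : Subgroup G} (hS : S.IsSubnormal) [X.Normal]
    (hX : IsPGroup p X) : X ≤ normalizer (pPart p S : Set G) := by
  have key : ∀ x ∈ X, ∀ y ∈ pPart p S, x * y * x⁻¹ ∈ pPart p S := by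
    intro x hx
    have : pPart p S ≤ (pPart p S).comap (MulAut.conj x).toMonoidHom := by
      refine (closure_le _).2 fun y hy => subset_closure ?_
      have ho : orderOf ((MulAut.conj x) y) = orderOf y := MulEquiv.orderOf_eq _ _
      exact ⟨mem_of_coprime_mem_sup hS hX
        (mul_mem (mul_mem (mem_sup_right hx) (mem_sup_left hy.1)) (mem_sup_right (X.inv_mem hx)))
        (by show (orderOf ((MulAut.conj x) y)).Coprime p
            rw [ho]; exact hy.2), by
          show (orderOf ((MulAut.conj x) y)).Coprime p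
          rw [ho]; exact hy.2⟩
    exact fun y hy => this hy
  intro x hx
  rw [mem_normalizer_iff]
  intro y
  refine ⟨key x hx y, fun h => ?_⟩
  have := key x⁻¹ (X.inv_mem hx) _ h
  simpa [mul_assoc] using this

theorem le_normalizer_pPart_in [Finite G] {p : ℕ} {S X D : Subgroup G} (hS : SubnormalIn S D)
    (hXD : X ≤ D) (hXn : D ≤ normalizer (X : Set G)) (hX : IsPGroup p X) :
    X ≤ normalizer (pPart p S : Set G) := by
  have : (X.subgroupOf D).Normal := (normal_subgroupOf_iff_le_normalizer hXD).2 hXn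
  have h : X.subgroupOf D ≤ _ := le_normalizer_pPart (p := p) (X := X.subgroupOf D) hS.2
    (hX.comap_subtype (K := D))
  have e : (pPart p (S.subgroupOf D)).map D.subtype = pPart p S := by
    rw [pPart, pPart, MonoidHom.map_closure]
    congr 1
    ext x
    constructor
    · rintro ⟨y, ⟨hy, hc⟩, rfl⟩
      exact ⟨hy, by rwa [Subgroup.coe_subtype, Subgroup.orderOf_coe]⟩
    · rintro ⟨hx, hc⟩
      exact ⟨⟨x, hS.1 hx⟩, ⟨hx, by rwa [Subgroup.orderOf_mk]⟩, rfl⟩
  have h2 := (map_mono (f := D.subtype) h).trans (le_normalizer_map _)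
  rwa [map_subgroupOf_eq_of_le hXD, e] at h2

theorem pPart_ne_bot [Finite G] {p : ℕ} [hp : Fact p.Prime] {S : Subgroup G} (hS : ¬ IsPGroup p S) :
    pPart p S ≠ ⊥ := by
  intro h
  apply hS
  intro x
  refine ⟨(orderOf (x : G)).factorization p, Subtype.ext ?_⟩
  set y := (x : G) ^ (p ^ (orderOf (x : G)).factorization p) with hy
  have hyc : (orderOf y).Coprime p := by
    rw [hy, orderOf_pow, Nat.gcd_eq_right (Nat.ordProj_dvd _ _)]
    exact (Nat.coprime_ordCompl hp.out (orderOf_pos (x : G)).ne').symm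
  have hym : y ∈ pPart p S := subset_closure ⟨S.pow_mem x.2 _, hyc⟩
  rw [h, mem_bot] at hym
  rw [SubgroupClass.coe_pow, OneMemClass.coe_one]
  exact hym

theorem pPart_conj {p : ℕ} {S : Subgroup G} {g : G}
    (hg : ∀ x, x ∈ S ↔ g * x * g⁻¹ ∈ S) : g ∈ normalizer (pPart p S : Set G) := by
  have key : ∀ g : G, (∀ x, x ∈ S ↔ g * x * g⁻¹ ∈ S) →
      ∀ y ∈ pPart p S, g * y * g⁻¹ ∈ pPart p S := by
    intro g hg
    have : pPart p S ≤ (pPart p S).comap (MulAut.conj g).toMonoidHom := by
      refine (closure_le _).2 fun y hy => subset_closure ⟨(hg y).1 hy.1, ?_⟩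
      show (orderOf ((MulAut.conj g) y)).Coprime p
      rw [MulEquiv.orderOf_eq]
      exact hy.2
    exact fun y hy => this hy
  rw [mem_normalizer_iff]
  refine fun y => ⟨key g hg y, fun h => ?_⟩
  have hg' : ∀ x, x ∈ S ↔ g⁻¹ * x * g⁻¹⁻¹ ∈ S := fun x => by
    rw [hg (g⁻¹ * x * g⁻¹⁻¹)]
    simp [mul_assoc]
  have := key g⁻¹ hg' _ h
  simpa [mul_assoc] using this

/-! ### Cores and layers of subgroups -/

/-- `O_p(A)` as a subgroup of the ambient group. -/
def opCore (p : ℕ) (A : Subgroup G) : Subgroup G := (Cfsg.pCore p A).map A.subtype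

theorem opCore_le (p : ℕ) (A : Subgroup G) : opCore p A ≤ A := map_subtype_le _

theorem opCore_isPGroup (p : ℕ) (A : Subgroup G) : IsPGroup p (opCore p A) :=
  (FittingCores.pCore_isPGroup p).map _

theorem le_normalizer_opCore (p : ℕ) (A : Subgroup G) : A ≤ normalizer (opCore p A : Set G) := by
  refine (normal_subgroupOf_iff_le_normalizer (opCore_le p A)).1 ?_
  rw [opCore, subgroupOf, comap_map_eq_self_of_injective A.subtype_injective]
  exact FittingCores.pCore_normal p

theorem le_opCore {p : ℕ} {X A : Subgroup G} (h : SubnormalIn X A) (hX : IsPGroup p X) :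
    X ≤ opCore p A := by
  rw [← map_subgroupOf_eq_of_le h.1]
  exact map_mono (FittingCores.le_pCore_of_isSubnormal h.2 hX.comap_subtype)

theorem opCore_map_conj (p : ℕ) (A : Subgroup G) (g : G) :
    opCore p (A.map (MulAut.conj g).toMonoidHom) = (opCore p A).map (MulAut.conj g).toMonoidHom := by
  rw [opCore, ← FittingCores.pCore_map_equiv p (A.equivMapOfInjective _ (MulAut.conj g).injective),
    opCore, map_map, map_map]
  congr 1

/-- `E(A)` as a subgroup of the ambient group. -/
def layerIn (A : Subgroup G) : Subgroup G := (Cfsg.layer A).map A.subtype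

theorem layerIn_le (A : Subgroup G) : layerIn A ≤ A := map_subtype_le _

theorem le_normalizer_layerIn (A : Subgroup G) : A ≤ normalizer (layerIn A : Set G) := by
  refine (normal_subgroupOf_iff_le_normalizer (layerIn_le A)).1 ?_
  rw [layerIn, subgroupOf, comap_map_eq_self_of_injective A.subtype_injective]
  exact Components.layer_normal

theorem layerIn_map_conj (A : Subgroup G) (g : G) :
    layerIn (A.map (MulAut.conj g).toMonoidHom) = (layerIn A).map (MulAut.conj g).toMonoidHom := by
  rw [layerIn, ← Components.layer_map_equiv (A.equivMapOfInjective _ (MulAut.conj g).injective),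
    layerIn, map_map, map_map]
  congr 1

theorem layerIn_le_normalizer [Finite G] {S A : Subgroup G} (hS : SubnormalIn S A) :
    layerIn A ≤ normalizer (S : Set G) := by
  refine normalizer_subgroupOf_le hS.1 ?_
  rw [Components.layer_le_iff]
  intro L hL
  rcases Components.component_le_or_commute hL hS.2 with h | h
  · exact h.trans le_normalizer
  · exact Components.normalizes_of_commute h

/-- A layer lying in an intersection normalises the subnormal subgroups of that intersection. -/
theorem layerIn_le_normalizer' [Finite G] {S D Z : Subgroup G} (hS : SubnormalIn S D) (hDZ : D ≤ Z)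
    (hE : layerIn Z ≤ D) : layerIn Z ≤ normalizer (S : Set G) := by
  have h : layerIn Z ≤ layerIn D := by
    rw [layerIn, map_le_iff_le_comap, Components.layer_le_iff]
    intro L hL
    rw [← map_le_iff_le_comap]
    have hLD : L.map Z.subtype ≤ D := (map_mono (Components.component_le_layer hL)).trans hE
    have hsub : L ≤ D.subgroupOf Z := fun x hx => hLD ⟨x, hx, rfl⟩
    have h1 := Components.component_map_equiv (subgroupOfEquivOfLe hDZ)
      (Components.component_subgroupOf hL hsub)
    have h2 : ((L.subgroupOf (D.subgroupOf Z)).map (subgroupOfEquivOfLe hDZ).toMonoidHom).map D.subtype =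
        L.map Z.subtype := by
      rw [map_map, ← map_subgroupOf_eq_of_le hsub, map_map, map_subgroupOf_eq_of_le hsub]
      congr 1
    rw [← h2]
    exact map_mono (Components.component_le_layer h1)
  exact h.trans (layerIn_le_normalizer hS)

/-- A layer lying subnormally in `Q ⊴ A` lies in the layer of `A`. -/
theorem layerIn_le_layerIn [Finite G] {Q Z A : Subgroup G} (hQA : SubnormalIn Q A) (hQZ : Q ≤ Z)
    (hE : layerIn Z ≤ Q) : layerIn Z ≤ layerIn A := by
  rw [layerIn, map_le_iff_le_comap, Components.layer_le_iff]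
  intro L hL
  rw [← map_le_iff_le_comap]
  have hLQ : L.map Z.subtype ≤ Q := (map_mono (Components.component_le_layer hL)).trans hE
  have hs : SubnormalIn (L.map Z.subtype) A := by
    refine SubnormalIn.trans (B := Q) ?_ hQA
    refine SubnormalIn.restrict (A := Z) ⟨map_subtype_le _, ?_⟩ hLQ hQZ
    rw [subgroupOf, comap_map_eq_self_of_injective Z.subtype_injective]
    exact hL.1
  have hc : Cfsg.IsComponent ((L.map Z.subtype).subgroupOf A) :=
    ⟨hs.2, (Components.quasisimple_congr
      ((L.equivMapOfInjective _ Z.subtype_injective).trans (subgroupOfEquivOfLe hs.1).symm)).1 hL.2⟩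
  rw [← map_subgroupOf_eq_of_le hs.1]
  exact map_mono (Components.component_le_layer hc)

/-- Normalisers grow in `p`-groups. -/
theorem le_of_normalizer_le [Finite G] {p : ℕ} [Fact p.Prime] {M X H : Subgroup G}
    (hM : IsPGroup p M) (hX : IsPGroup p X) (hMX : M ≤ normalizer (X : Set G))
    (hN : normalizer (M : Set G) ≤ H) (hXH : X ⊓ H ≤ M) : X ≤ M := by
  set V := M ⊔ X with hV
  have hVp : IsPGroup p V := hM.to_sup_of_normal_right' hX hMX
  have := hVp.isNilpotent
  by_contra hne
  have hlt : M.subgroupOf V < ⊤ := by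
    rw [lt_top_iff_ne_top, Ne, subgroupOf_eq_top]
    exact fun h => hne ((le_sup_right : X ≤ V).trans h)
  obtain ⟨v, hv, hvM⟩ := SetLike.exists_of_lt (Group.normalizerCondition_of_isNilpotent _ hlt)
  apply hvM
  have hvH : (v : G) ∈ H := hN (normalizer_subgroupOf_le (le_sup_left : M ≤ V) le_rfl
    ⟨v, hv, rfl⟩)
  rw [mem_subgroupOf]
  have hvV : (v : G) ∈ M ⊔ X := v.2
  rw [← SetLike.mem_coe, coe_mul_of_left_le_normalizer_right _ _ hMX] at hvV
  obtain ⟨m, hm, x, hx, hmx⟩ := hvV
  have hmH : m ∈ H := hN (le_normalizer hm)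
  have hxH : x ∈ H := by
    have h2 := H.mul_mem (H.inv_mem hmH) hvH
    rw [← hmx] at h2
    simpa using h2
  rw [← hmx]
  exact M.mul_mem hm (hXH ⟨hx, hxH⟩)

end Cfsg.Agent.TW
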