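import Cfsg.Agent.Lib.TW.Suborbit

/-! Wielandt's bound: the index of the kernel divides `d! ((d-1)!)^d`. -/

namespace Cfsg.Agent.TW

open MulAction

variable {G Ω : Type*} [Group G] [MulAction G Ω] {a b : Ω}

theorem arc_iff_mem_orbit {w : Ω} : Arc (G := G) a b a w ↔ w ∈ orbit (stabilizer G a) b :=
  ⟨fun ⟨g, h₁, h₂⟩ => ⟨⟨g, h₁⟩, h₂⟩, fun ⟨⟨g, h₁⟩, h₂⟩ => ⟨g, h₁, h₂⟩⟩

theorem natCard_orbit_mul (a b : Ω) : Nat.card (orbit (stabilizer G a) b) *
    Nat.card ↥(stabilizer G a ⊓ stabilizer G b) = Nat.card (stabilizer G a) := by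
  rw [Nat.card_congr (MulAction.orbitEquivQuotientStabilizer (stabilizer G a) b)]
  have e : stabilizer (stabilizer G a) b = (stabilizer G b).subgroupOf (stabilizer G a) := rfl
  have h : Nat.card ↥(stabilizer G a ⊓ stabilizer G b) =
      Nat.card ((stabilizer G b).subgroupOf (stabilizer G a)) := by
    rw [← Subgroup.inf_subgroupOf_left]
    exact (Nat.card_congr (Subgroup.subgroupOfEquivOfLe inf_le_left).toEquiv).symm
  rw [h, e]
  exact Subgroup.index_mul_card _

variable [Finite G] [Finite Ω]

theorem natCard_orbit_swap (hprim : IsPreprimitive G Ω) (a b : Ω) :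
    Nat.card (orbit (stabilizer G b) a) = Nat.card (orbit (stabilizer G a) b) := by
  have := hprim.toIsPretransitive
  obtain ⟨g, rfl⟩ := MulAction.exists_smul_eq G a b
  have h1 := natCard_orbit_mul (G := G) a (g • a)
  have h2 := natCard_orbit_mul (G := G) (g • a) a
  rw [inf_comm] at h2
  have hc : Nat.card (stabilizer G (g • a)) = Nat.card (stabilizer G a) := by
    rw [← stabilizer_map g, Subgroup.card_map_of_injective (MulAut.conj g).injective]
  rw [hc, ← h1] at h2
  exact Nat.eq_of_mul_eq_mul_right Nat.card_pos h2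

theorem natCard_pred {v w : Ω} (h : Arc (G := G) a b v w) :
    Nat.card {u // Arc (G := G) a b u w} = Nat.card (orbit (stabilizer G b) a) := by
  obtain ⟨g, -, rfl⟩ := h
  refine Nat.card_congr
    { toFun := fun u => ⟨g⁻¹ • (u : Ω), arc_iff_mem_orbit.1 (arc_swap.2 ?_)⟩
      invFun := fun u => ⟨g • (u : Ω), arc_smul g (arc_swap.1 (arc_iff_mem_orbit.2 u.2))⟩
      left_inv := fun u => Subtype.ext (smul_inv_smul g _)
      right_inv := fun u => Subtype.ext (inv_smul_smul g _) }
  simpa using arc_smul g⁻¹ u.2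

theorem toPermHom_eq_one_iff {x : stabilizer G a} :
    toPermHom (stabilizer G a) (orbit (stabilizer G a) b) x = 1 ↔
      ∀ w, Arc (G := G) a b a w → (x : G) • w = w := by
  constructor
  · intro hx w hw
    exact congrArg Subtype.val (Equiv.ext_iff.1 hx ⟨w, arc_iff_mem_orbit.1 hw⟩)
  · exact fun hx => Equiv.ext fun w => Subtype.ext (hx w (arc_iff_mem_orbit.2 w.2))

theorem index_kern_dvd (hprim : IsPreprimitive G Ω) (a b : Ω) {d : ℕ}
    (hd : Nat.card (orbit (stabilizer G a) b) = d) :
    ((kern (G := G) a b a).subgroupOf (stabilizer G a)).index ∣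
      d.factorial * ((d - 1).factorial) ^ d := by
  classical
  set A := stabilizer G a
  set π := toPermHom A (orbit A b) with hπ
  set K := π.ker with hK
  set P := (kern (G := G) a b a).subgroupOf A with hP
  have hKmem : ∀ x : A, x ∈ K → ∀ w, Arc (G := G) a b a w → (x : G) • w = w := fun x hx =>
    toPermHom_eq_one_iff.1 hx
  have hPK : P ≤ K := by
    intro x hx
    rw [hK, MonoidHom.mem_ker, hπ, toPermHom_eq_one_iff]
    exact fun w hw => ((mem_kern.1 (Subgroup.mem_subgroupOf.1 hx)).2 w hw).1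
  have h1 : K.index ∣ d.factorial := by
    rw [hK, Subgroup.index_ker, ← hd, ← Nat.card_perm]
    exact π.range.card_subgroup_dvd_card
  let S := {w // Arc (G := G) a b a w}
  let T : S → Type _ := fun w => {u // Arc (G := G) a b u (w : Ω) ∧ u ≠ a}
  have hstab : ∀ (x : A), x ∈ K → ∀ (w : S) (u : Ω), Arc (G := G) a b u (w : Ω) → u ≠ a →
      Arc (G := G) a b ((x : G) • u) (w : Ω) ∧ (x : G) • u ≠ a := by
    intro x hx w u hu hua
    refine ⟨?_, fun e => hua ?_⟩
    · have := arc_smul (x : G) hu
      rwa [hKmem x hx w w.2] at this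
    · have hxa : (x : G) • a = a := x.2
      exact smul_left_cancel (x : G) (e.trans hxa.symm)
  let f : K →* ∀ w : S, Equiv.Perm (T w) := Pi.monoidHom fun w =>
    { toFun := fun x =>
        { toFun := fun u => ⟨((x : A) : G) • (u : Ω), hstab x x.2 w u u.2.1 u.2.2⟩
          invFun := fun u => ⟨(((x⁻¹ : K) : A) : G) • (u : Ω), hstab _ (x⁻¹).2 w u u.2.1 u.2.2⟩
          left_inv := fun u => Subtype.ext (by simp)
          right_inv := fun u => Subtype.ext (by simp) }
      map_one' := Equiv.ext fun u => Subtype.ext (by simp)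
      map_mul' := fun x y => Equiv.ext fun u => Subtype.ext (by simp [mul_smul]) }
  have hker : f.ker = P.subgroupOf K := by
    ext x
    rw [MonoidHom.mem_ker, Subgroup.mem_subgroupOf, hP, Subgroup.mem_subgroupOf, mem_kern]
    constructor
    · intro hx
      refine ⟨(x : A).2, fun w hw => ⟨hKmem x x.2 w hw, fun u hu => ?_⟩⟩
      by_cases hua : u = a
      · rw [hua]; exact (x : A).2
      · exact congrArg Subtype.val (Equiv.ext_iff.1 (congrFun hx ⟨w, hw⟩) ⟨u, hu, hua⟩)
    · exact fun hx => funext fun w => Equiv.ext fun u =>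
        Subtype.ext ((hx.2 (w : Ω) w.2).2 u u.2.1)
  have hT : ∀ w : S, Nat.card (T w) = d - 1 := by
    intro w
    have hpred : Nat.card {u // Arc (G := G) a b u (w : Ω)} = d := by
      rw [natCard_pred w.2, natCard_orbit_swap hprim a b, hd]
    have hsum := Nat.card_congr (Equiv.sumCompl
      (fun u : {u // Arc (G := G) a b u (w : Ω)} => (u : Ω) = a))
    rw [Nat.card_sum, hpred] at hsum
    have h1 : Nat.card {u : {u // Arc (G := G) a b u (w : Ω)} // (u : Ω) = a} = 1 := by
      rw [Nat.card_eq_one_iff_unique]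
      exact ⟨⟨fun u v => Subtype.ext (Subtype.ext (u.2.trans v.2.symm))⟩, ⟨⟨⟨a, w.2⟩, rfl⟩⟩⟩
    have h2 : Nat.card (T w) =
        Nat.card {u : {u // Arc (G := G) a b u (w : Ω)} // ¬ (u : Ω) = a} :=
      Nat.card_congr (Equiv.subtypeSubtypeEquivSubtypeInter _ _).symm
    omega
  have h2 : P.relIndex K ∣ ((d - 1).factorial) ^ d := by
    rw [Subgroup.relIndex, ← hker, Subgroup.index_ker]
    refine f.range.card_subgroup_dvd_card.trans ?_
    have : Fintype S := Fintype.ofFinite S
    rw [Nat.card_pi, Finset.prod_congr rfl fun w _ => by rw [Nat.card_perm, hT w],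
      Finset.prod_const, Finset.card_univ, ← Nat.card_eq_fintype_card]
    have hS : Nat.card S = d := by
      rw [← hd]
      exact Nat.card_congr (Equiv.subtypeEquivRight fun w => arc_iff_mem_orbit)
    rw [hS]
  rw [← Subgroup.relIndex_mul_index hPK, mul_comm]
  exact Nat.mul_dvd_mul h1 h2

theorem card_stabilizer_dvd_of_kern_eq_bot (hprim : IsPreprimitive G Ω) (a b : Ω) {d : ℕ}
    (hd : Nat.card (orbit (stabilizer G a) b) = d) (h : kern (G := G) a b a = ⊥) :
    Nat.card (stabilizer G a) ∣ d.factorial * ((d - 1).factorial) ^ d := by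
  have := index_kern_dvd hprim a b hd
  rwa [h, Subgroup.bot_subgroupOf, Subgroup.index_bot] at this

theorem stabilizer_ne (a b : Ω) {d : ℕ} (hd : Nat.card (orbit (stabilizer G a) b) = d) (h2 : 2 ≤ d) :
    stabilizer G a ≠ stabilizer G b := by
  intro e
  have : orbit (stabilizer G a) b = {b} := by
    ext w
    constructor
    · rintro ⟨⟨g, hg⟩, rfl⟩
      rw [e] at hg
      exact hg
    · rintro rfl
      exact mem_orbit_self _
  rw [this] at hd
  simp at hd
  omega

omit [Finite G] in
theorem nontrivial_points (a b : Ω) {d : ℕ} (hd : Nat.card (orbit (stabilizer G a) b) = d)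
    (h2 : 2 ≤ d) : Nontrivial Ω := by
  by_contra h
  rw [not_nontrivial_iff_subsingleton] at h
  have : Nat.card (orbit (stabilizer G a) b) ≤ 1 := Finite.card_le_one_iff_subsingleton.2 inferInstance
  omega

variable [FaithfulSMul G Ω] (hprim : IsPreprimitive G Ω) (a b : Ω) {d : ℕ}
  (hd : Nat.card (orbit (stabilizer G a) b) = d) (h2 : 2 ≤ d)
include hprim hd h2

theorem card_dvd_of_layer_ne_bot (hE : Cfsg.layer (stabilizer G a) ≠ ⊥) :
    Nat.card (stabilizer G a) ∣ d.factorial * ((d - 1).factorial) ^ d := by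
  have := nontrivial_points a b hd h2
  have hE' : layerIn (stabilizer G a) ≠ ⊥ := fun h => hE
    ((Subgroup.map_eq_bot_iff_of_injective _ (stabilizer G a).subtype_injective).1 h)
  rcases kern_eq_bot_or hprim (stabilizer_ne a b hd h2) hE' with h | h
  · exact card_stabilizer_dvd_of_kern_eq_bot hprim a b hd h
  · rw [card_stabilizer_eq hprim a b]
    exact card_stabilizer_dvd_of_kern_eq_bot hprim b a (by rw [natCard_orbit_swap hprim a b, hd]) h

theorem isPGroup_kern_of_pCore_ne_bot {p : ℕ} [Fact p.Prime]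
    (hp : Cfsg.pCore p (stabilizer G a) ≠ ⊥) : IsPGroup p (kern (G := G) a b a) := by
  have := nontrivial_points a b hd h2
  exact isPGroup_kern hprim (stabilizer_ne a b hd h2) fun h => hp
    ((Subgroup.map_eq_bot_iff_of_injective _ (stabilizer G a).subtype_injective).1 h)

omit hd h2 hprim in
theorem fittingSubgroup_eq_bot_of_pCore {H : Type*} [Group H] [Finite H]
    (h : ∀ p : ℕ, p.Prime → Cfsg.pCore p H = ⊥) : Cfsg.fittingSubgroup H = ⊥ := by
  rw [FittingCores.fitting_eq_iSup_pCore, iSup_eq_bot]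
  exact fun p => h p p.2

/-- If the stabiliser is not strongly constrained, its order divides Wielandt's bound. -/
theorem card_dvd_of_not_constrained
    (hnc : ∀ p : ℕ, p.Prime →
      Cfsg.generalizedFittingSubgroup (stabilizer G a) ≠ Cfsg.pCore p (stabilizer G a)) :
    Nat.card (stabilizer G a) ∣ d.factorial * ((d - 1).factorial) ^ d := by
  by_cases hE : Cfsg.layer (stabilizer G a) = ⊥
  · have hF : Cfsg.generalizedFittingSubgroup (stabilizer G a) =
        Cfsg.fittingSubgroup (stabilizer G a) := by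
      rw [Cfsg.generalizedFittingSubgroup, hE, bot_sup_eq]
    obtain ⟨p, hp, hpne⟩ : ∃ p : ℕ, p.Prime ∧ Cfsg.pCore p (stabilizer G a) ≠ ⊥ := by
      by_contra h
      push Not at h
      exact hnc 2 Nat.prime_two (by rw [hF, fittingSubgroup_eq_bot_of_pCore h, h 2 Nat.prime_two])
    obtain ⟨q, hq, hqp, hqne⟩ :
        ∃ q : ℕ, q.Prime ∧ q ≠ p ∧ Cfsg.pCore q (stabilizer G a) ≠ ⊥ := by
      by_contra h
      push Not at h
      refine hnc p hp (hF.trans ?_)
      rw [FittingCores.fitting_eq_iSup_pCore]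
      refine le_antisymm (iSup_le fun q => ?_) (le_iSup_of_le ⟨p, hp⟩ le_rfl)
      by_cases e : (q : ℕ) = p
      · rw [e]
      · rw [h q q.2 e]; exact bot_le
    have : Fact p.Prime := ⟨hp⟩
    have : Fact q.Prime := ⟨hq⟩
    have hPp := isPGroup_kern_of_pCore_ne_bot hprim a b hd h2 hpne
    have hPq := isPGroup_kern_of_pCore_ne_bot hprim a b hd h2 hqne
    refine card_stabilizer_dvd_of_kern_eq_bot hprim a b hd ?_
    exact disjoint_self.1 (IsPGroup.disjoint_of_ne p q (Ne.symm hqp) _ _ hPp hPq)
  · exact card_dvd_of_layer_ne_bot hprim a b hd h2 hE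

theorem card_dvd_of_fitting_eq_bot (hF : Cfsg.fittingSubgroup (stabilizer G a) = ⊥) :
    Nat.card (stabilizer G a) ∣ d.factorial * ((d - 1).factorial) ^ d := by
  by_cases hE : Cfsg.layer (stabilizer G a) = ⊥
  · have : Cfsg.generalizedFittingSubgroup (stabilizer G a) = ⊥ := by
      rw [Cfsg.generalizedFittingSubgroup, hE, hF, bot_sup_eq]
    have h := Components.centralizer_generalizedFitting_le (G := stabilizer G a)
    rw [this] at h
    have htop : (⊤ : Subgroup (stabilizer G a)) = ⊥ := by
      rw [eq_bot_iff]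
      refine le_trans ?_ h
      intro x _
      rw [Subgroup.mem_centralizer_iff]
      intro y hy
      rw [Subgroup.coe_bot, Set.mem_singleton_iff] at hy
      simp [hy]
    rw [← Subgroup.card_top, htop, Subgroup.card_bot]
    exact one_dvd _
  · exact card_dvd_of_layer_ne_bot hprim a b hd h2 hE

end Cfsg.Agent.TW
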