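import Cfsg.Agent.Lib.Components.FStar
import Cfsg.Agent.Lib.Solvable.Fitting
import Mathlib.GroupTheory.SpecificGroups.Alternating.Simple
import Mathlib.GroupTheory.GroupAction.MultipleTransitivity

/-!
Facts on groups of permutations containing the alternating group, for the theorem on suborbits
with alternating or symmetric subconstituent.
-/

namespace Cfsg.Agent.TW

open Equiv Subgroup

theorem isSimpleGroup_alt {n : ℕ} (h5 : 5 ≤ n) : IsSimpleGroup (alternatingGroup (Fin n)) :=
  alternatingGroup.isSimpleGroup (by simpa using h5)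

theorem eq_one_of_commute_alt {n : ℕ} (h4 : 4 ≤ n) {x : Perm (Fin n)}
    (h : ∀ k ∈ alternatingGroup (Fin n), k * x = x * k) : x = 1 := by
  refine Equiv.ext fun i => ?_
  by_contra hi
  change x i ≠ i at hi
  have h2 : 1 < (({i, x i} : Finset (Fin n))ᶜ).card := by
    rw [Finset.card_compl, Finset.card_pair (Ne.symm hi), Fintype.card_fin]
    omega
  obtain ⟨c, d, hc, hd, hcd⟩ := Finset.one_lt_card_iff.1 h2
  simp only [Finset.compl_insert, Finset.mem_erase, Finset.mem_compl, Finset.mem_singleton] at hc hd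
  have hk : Equiv.swap (x i) d * Equiv.swap (x i) c ∈ alternatingGroup (Fin n) := by
    rw [Equiv.Perm.mem_alternatingGroup, map_mul, Equiv.Perm.sign_swap (Ne.symm hd.2),
      Equiv.Perm.sign_swap (Ne.symm hc.2)]
    decide
  have e := Equiv.ext_iff.1 (h _ hk) i
  simp only [Equiv.Perm.mul_apply] at e
  rw [Equiv.swap_apply_left, Equiv.swap_apply_of_ne_of_ne hc.2 hcd,
    Equiv.swap_apply_of_ne_of_ne (Ne.symm hi) (Ne.symm hc.1),
    Equiv.swap_apply_of_ne_of_ne (Ne.symm hi) (Ne.symm hd.1)] at e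
  exact hc.2 e

/-- A subgroup normalised by the alternating group is trivial or contains it. -/
theorem alt_le_or_eq_bot {n : ℕ} (h5 : 5 ≤ n) {N : Subgroup (Perm (Fin n))}
    (hn : alternatingGroup (Fin n) ≤ normalizer (N : Set (Perm (Fin n)))) :
    N = ⊥ ∨ alternatingGroup (Fin n) ≤ N := by
  have := isSimpleGroup_alt h5
  set A := alternatingGroup (Fin n)
  have hnorm : (N.subgroupOf A).Normal :=
    ⟨fun y hy g => (mem_normalizer_iff.1 (hn g.2) (y : Perm (Fin n))).1 hy⟩
  rcases hnorm.eq_bot_or_eq_top with h | h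
  · left
    rw [eq_bot_iff]
    intro x hx
    rw [Subgroup.mem_bot]
    refine eq_one_of_commute_alt (by omega) fun k hk => ?_
    have h1 : k * x * k⁻¹ * x⁻¹ ∈ N :=
      N.mul_mem ((mem_normalizer_iff.1 (hn hk) x).1 hx) (N.inv_mem hx)
    have h2 : k * x * k⁻¹ * x⁻¹ ∈ A := by
      have : x * k⁻¹ * x⁻¹ ∈ A :=
        (inferInstance : (alternatingGroup (Fin n)).Normal).conj_mem _ (A.inv_mem hk) x
      simpa [mul_assoc] using A.mul_mem hk this
    have h3 : (⟨_, h2⟩ : A) ∈ N.subgroupOf A := h1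
    rw [h, Subgroup.mem_bot] at h3
    have h4 : k * x * k⁻¹ * x⁻¹ = 1 := congrArg Subtype.val h3
    rwa [mul_inv_eq_one, mul_inv_eq_iff_eq_mul] at h4
  · exact Or.inr (subgroupOf_eq_top.1 h)

/-- The image of a normal subgroup under a map onto a group containing the alternating group. -/
theorem alt_le_map {X : Type*} [Group X] {n : ℕ} (h5 : 5 ≤ n) (f : X →* Perm (Fin n))
    (hf : alternatingGroup (Fin n) ≤ f.range) (N : Subgroup X) [N.Normal] (hN : ¬ N ≤ f.ker) :
    alternatingGroup (Fin n) ≤ N.map f := by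
  refine (alt_le_or_eq_bot h5 ?_).resolve_left fun h => hN ((Subgroup.map_eq_bot_iff N).1 h)
  refine hf.trans ?_
  have h := le_normalizer_map (H := N) f
  rw [normalizer_eq_top] at h
  rwa [MonoidHom.range_eq_map]

theorem two_mul_card_alt {n : ℕ} (h2 : 2 ≤ n) :
    2 * Nat.card (alternatingGroup (Fin n)) = n.factorial := by
  have : Nontrivial (Fin n) := Fin.nontrivial_iff_two_le.2 h2
  rw [two_mul_nat_card_alternatingGroup, Nat.card_perm, Nat.card_fin]

theorem factorial_pred_lt_card_alt {n : ℕ} (h3 : 3 ≤ n) :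
    (n - 1).factorial < Nat.card (alternatingGroup (Fin n)) := by
  have h := two_mul_card_alt (n := n) (by omega)
  rw [← Nat.mul_factorial_pred (n := n) (by omega)] at h
  have : 3 * (n - 1).factorial ≤ n * (n - 1).factorial := Nat.mul_le_mul_right _ h3
  have := Nat.factorial_pos (n - 1)
  omega

theorem index_le_two_of_alt_le {n : ℕ} (h2 : 2 ≤ n) {R : Subgroup (Perm (Fin n))}
    (h : alternatingGroup (Fin n) ≤ R) : R.index ≤ 2 := by
  have : Nontrivial (Fin n) := Fin.nontrivial_iff_two_le.2 h2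
  exact Nat.le_of_dvd (by norm_num)
    ((index_dvd_of_le h).trans (alternatingGroup.index_eq_two (α := Fin n)).dvd)

theorem eq_alt_or_top {n : ℕ} {R : Subgroup (Perm (Fin n))}
    (h : R.index ≤ 2) : R = alternatingGroup (Fin n) ∨ R = ⊤ := by
  rcases Nat.lt_or_eq_of_le h with h1 | h1
  · right
    rw [← index_eq_one]
    have := R.index_ne_zero_of_finite
    omega
  · exact Or.inl (Equiv.Perm.eq_alternatingGroup_of_index_eq_two h1)

/-! ### Restriction to the complement of a point -/

theorem exists_equiv_compl {d : ℕ} (pt : Fin d) : Nonempty ({x : Fin d // x ≠ pt} ≃ Fin (d - 1)) :=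
  ⟨Fintype.equivFinOfCardEq (by simp)⟩

/-- The complement of a point, numbered. -/
noncomputable def complEquiv {d : ℕ} (pt : Fin d) : {x : Fin d // x ≠ pt} ≃ Fin (d - 1) :=
  (exists_equiv_compl pt).some

theorem ne_iff_of_stab {d : ℕ} {pt : Fin d} (f : MulAction.stabilizer (Perm (Fin d)) pt) (x : Fin d) :
    (f : Perm (Fin d)) x ≠ pt ↔ x ≠ pt := by
  have h : (f : Perm (Fin d)) pt = pt := f.2
  exact not_congr ⟨fun e => (f : Perm (Fin d)).injective (e.trans h.symm), fun e => by rw [e, h]⟩

/-- A permutation fixing a point as a permutation of the others. -/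
noncomputable def restrPt {d : ℕ} (pt : Fin d) :
    MulAction.stabilizer (Perm (Fin d)) pt →* Perm (Fin (d - 1)) :=
  (complEquiv pt).permCongrHom.toMonoidHom.comp
    { toFun := fun f => (f : Perm (Fin d)).subtypePerm (ne_iff_of_stab f)
      map_one' := Equiv.ext fun x => Subtype.ext rfl
      map_mul' := fun f g => Equiv.ext fun x => Subtype.ext rfl }

theorem sign_restrPt {d : ℕ} (pt : Fin d) (f : MulAction.stabilizer (Perm (Fin d)) pt) :
    Equiv.Perm.sign (restrPt pt f) = Equiv.Perm.sign (f : Perm (Fin d)) := by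
  show Equiv.Perm.sign ((complEquiv pt).permCongr _) = _
  rw [Equiv.Perm.sign_permCongr]
  refine Equiv.Perm.sign_subtypePerm _ (ne_iff_of_stab f) fun x hx e => hx ?_
  rw [e]
  exact f.2

theorem restrPt_injective {d : ℕ} (pt : Fin d) : Function.Injective (restrPt pt) := by
  intro f g h
  have h' := (complEquiv pt).permCongrHom.injective h
  refine Subtype.ext (Equiv.ext fun x => ?_)
  by_cases hx : x = pt
  · rw [hx]
    exact f.2.trans g.2.symm
  · exact congrArg Subtype.val (Equiv.ext_iff.1 h' ⟨x, hx⟩)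

theorem restrPt_surjective {d : ℕ} (pt : Fin d) : Function.Surjective (restrPt pt) := by
  intro q
  set r := (complEquiv pt).symm.permCongr q with hr
  refine ⟨⟨Equiv.Perm.ofSubtype r, Equiv.Perm.ofSubtype_apply_of_not_mem r (fun h => h rfl)⟩, ?_⟩
  show (complEquiv pt).permCongr _ = q
  ext x
  simp [hr]

/-! ### Sections -/

/-- A map onto a simple group stays onto on the kernel of a map with small image. -/
theorem restrict_surjective {W T Y : Type*} [Group W] [Group T] [Group Y] [Finite W] [IsSimpleGroup T]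
    (g : W →* T) (hg : Function.Surjective g) (h : W →* Y)
    (hc : Nat.card h.range < Nat.card T) : Function.Surjective (g.comp h.ker.subtype) := by
  rcases (Subgroup.Normal.map (inferInstance : h.ker.Normal) g hg).eq_bot_or_eq_top with e | e
  · have h1 := Nat.le_of_dvd (Nat.pos_of_ne_zero h.ker.index_ne_zero_of_finite)
      (index_dvd_of_le ((Subgroup.map_eq_bot_iff _).1 e))
    rw [index_ker, index_ker, MonoidHom.range_eq_top.2 hg, card_top] at h1
    omega
  · rw [← MonoidHom.range_eq_top, MonoidHom.range_comp, range_subtype, e]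

/-- No group embedded in a product of small groups maps onto a simple group. -/
theorem not_surjective_of_family {W T ι : Type*} [Group W] [Group T] [Finite W] [IsSimpleGroup T]
    [Finite ι] {Y : ι → Type*} [∀ i, Group (Y i)] [∀ i, Finite (Y i)] (F : ∀ i, W →* Y i)
    (hinj : ∀ x, (∀ i, F i x = 1) → x = 1) (hc : ∀ i, Nat.card (Y i) < Nat.card T) (g : W →* T) :
    ¬ Function.Surjective g := by
  classical
  intro hg
  have key : ∀ s : Finset ι, ∀ t : T, ∃ x : W, g x = t ∧ ∀ i ∈ s, F i x = 1 := by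
    intro s
    induction s using Finset.induction_on with
    | empty => exact fun t => ⟨(hg t).choose, (hg t).choose_spec, by simp⟩
    | insert i s _ ih =>
      intro t
      set N : Subgroup W := ⨅ j ∈ s, (F j).ker with hN
      have hNs : Function.Surjective (g.comp N.subtype) := fun t => by
        obtain ⟨x, hx, hxs⟩ := ih t
        exact ⟨⟨x, by simpa [hN, mem_iInf] using hxs⟩, hx⟩
      obtain ⟨⟨⟨x, hxN⟩, hxi⟩, hx⟩ := restrict_surjective _ hNs ((F i).comp N.subtype)
        ((Subgroup.card_le_card_group _).trans_lt (hc i)) t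
      refine ⟨x, hx, fun j hj => ?_⟩
      rcases Finset.mem_insert.1 hj with rfl | hj
      · exact hxi
      · simp only [hN, mem_iInf, MonoidHom.mem_ker] at hxN
        exact hxN j hj
  have := Fintype.ofFinite ι
  obtain ⟨t, ht⟩ := exists_ne (1 : T)
  obtain ⟨x, hx, hxs⟩ := key Finset.univ t
  apply ht
  rw [← hx, hinj x fun i => hxs i (Finset.mem_univ i), map_one]

/-- No subgroup of `D` maps onto the alternating group of degree `d`. -/
def NoAltSection {G : Type*} [Group G] (D : Subgroup G) (d : ℕ) : Prop :=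
  ∀ W : Subgroup G, W ≤ D → ∀ g : W →* alternatingGroup (Fin d), ¬ Function.Surjective g

theorem NoAltSection.not_surjective {G W : Type*} [Group G] [Group W] {D : Subgroup G} {d : ℕ}
    (h : NoAltSection D d) (i : W →* G) (hi : Function.Injective i) (hD : ∀ x, i x ∈ D)
    (g : W →* alternatingGroup (Fin d)) : ¬ Function.Surjective g := fun hg =>
  h i.range (by rintro _ ⟨x, rfl⟩; exact hD x) (g.comp (MonoidHom.ofInjective hi).symm.toMonoidHom)
    (hg.comp (MonoidHom.ofInjective hi).symm.surjective)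

/-! ### Subdirect products of two such groups -/

section Subdirect

variable {m n : ℕ}

/-- A subgroup of a product containing both alternating groups is determined by signs. -/
theorem mem_of_sign_eq {W : Subgroup (Perm (Fin m) × Perm (Fin n))}
    (hm : ∀ x ∈ alternatingGroup (Fin m), (x, 1) ∈ W) (hn : ∀ y ∈ alternatingGroup (Fin n), (1, y) ∈ W)
    {w : Perm (Fin m) × Perm (Fin n)} (hw : w ∈ W) {x : Perm (Fin m)} {y : Perm (Fin n)}
    (hx : Equiv.Perm.sign x = Equiv.Perm.sign w.1) (hy : Equiv.Perm.sign y = Equiv.Perm.sign w.2) :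
    (x, y) ∈ W := by
  have h1 : x * w.1⁻¹ ∈ alternatingGroup (Fin m) := by
    rw [Equiv.Perm.mem_alternatingGroup, map_mul, map_inv, hx, mul_inv_cancel]
  have h2 : y * w.2⁻¹ ∈ alternatingGroup (Fin n) := by
    rw [Equiv.Perm.mem_alternatingGroup, map_mul, map_inv, hy, mul_inv_cancel]
  have h := W.mul_mem (W.mul_mem (hm _ h1) (hn _ h2)) hw
  convert h using 1
  ext <;> simp

theorem eq_prod_alt {W : Subgroup (Perm (Fin m) × Perm (Fin n))}
    (hm : ∀ x ∈ alternatingGroup (Fin m), (x, 1) ∈ W) (hn : ∀ y ∈ alternatingGroup (Fin n), (1, y) ∈ W)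
    (hW : ∀ w ∈ W, Equiv.Perm.sign w.1 = 1 ∧ Equiv.Perm.sign w.2 = 1) :
    W = (alternatingGroup (Fin m)).prod (alternatingGroup (Fin n)) := by
  refine le_antisymm (fun w hw => mem_prod.2 (hW w hw)) fun w hw => ?_
  have h := W.mul_mem (hm _ (mem_prod.1 hw).1) (hn _ (mem_prod.1 hw).2)
  convert h using 1
  ext <;> simp

theorem eq_top_or_eq_signKer {W : Subgroup (Perm (Fin m) × Perm (Fin n))}
    (hm : ∀ x ∈ alternatingGroup (Fin m), (x, 1) ∈ W) (hn : ∀ y ∈ alternatingGroup (Fin n), (1, y) ∈ W)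
    (hfst : ∃ w ∈ W, Equiv.Perm.sign w.1 = -1) (hsnd : ∃ w ∈ W, Equiv.Perm.sign w.2 = -1) :
    W = ⊤ ∨ W = ((Equiv.Perm.sign.comp (MonoidHom.fst (Perm (Fin m)) (Perm (Fin n)))) *
      (Equiv.Perm.sign.comp (MonoidHom.snd (Perm (Fin m)) (Perm (Fin n))))).ker := by
  obtain ⟨v, hv, hv1⟩ := hfst
  obtain ⟨v', hv', hv2⟩ := hsnd
  by_cases h : ∀ w ∈ W, Equiv.Perm.sign w.1 = Equiv.Perm.sign w.2
  · refine Or.inr (le_antisymm (fun w hw => ?_) fun w hw => ?_)
    · simp only [MonoidHom.mem_ker, MonoidHom.mul_apply, MonoidHom.comp_apply, MonoidHom.coe_fst,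
        MonoidHom.coe_snd, h w hw, Int.units_mul_self]
    · simp only [MonoidHom.mem_ker, MonoidHom.mul_apply, MonoidHom.comp_apply, MonoidHom.coe_fst,
        MonoidHom.coe_snd] at hw
      rcases Int.units_eq_one_or (Equiv.Perm.sign w.1) with e | e <;> rw [e] at hw
      · exact mem_of_sign_eq hm hn W.one_mem (by simp [e]) (by simpa using hw)
      · exact mem_of_sign_eq hm hn hv (e.trans hv1.symm)
          (by rw [← h v hv, hv1]; rwa [neg_mul, one_mul, neg_eq_iff_eq_neg] at hw)
  · push Not at h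
    obtain ⟨u, hu, hne⟩ := h
    left
    have main : ∀ s t : ℤˣ, ∃ w ∈ W, Equiv.Perm.sign w.1 = s ∧ Equiv.Perm.sign w.2 = t := by
      have hu' : (Equiv.Perm.sign u.1 = -1 ∧ Equiv.Perm.sign u.2 = 1) ∨
          (Equiv.Perm.sign u.1 = 1 ∧ Equiv.Perm.sign u.2 = -1) := by
        rcases Int.units_eq_one_or (Equiv.Perm.sign u.1) with e | e <;>
          rcases Int.units_eq_one_or (Equiv.Perm.sign u.2) with e' | e' <;> simp_all
      have hboth : ∃ p ∈ W, ∃ q ∈ W, (Equiv.Perm.sign p.1 = -1 ∧ Equiv.Perm.sign p.2 = 1) ∧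
          (Equiv.Perm.sign q.1 = 1 ∧ Equiv.Perm.sign q.2 = -1) := by
        rcases hu' with ⟨e1, e2⟩ | ⟨e1, e2⟩
        · rcases Int.units_eq_one_or (Equiv.Perm.sign v'.1) with e | e
          · exact ⟨u, hu, v', hv', ⟨e1, e2⟩, ⟨e, hv2⟩⟩
          · exact ⟨u, hu, u * v', W.mul_mem hu hv', ⟨e1, e2⟩, by simp [e1, e], by simp [e2, hv2]⟩
        · rcases Int.units_eq_one_or (Equiv.Perm.sign v.2) with e | e
          · exact ⟨v, hv, u, hu, ⟨hv1, e⟩, ⟨e1, e2⟩⟩
          · exact ⟨u * v, W.mul_mem hu hv, u, hu, ⟨by simp [e1, hv1], by simp [e2, e]⟩, ⟨e1, e2⟩⟩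
      obtain ⟨p, hp, q, hq, ⟨p1, p2⟩, q1, q2⟩ := hboth
      intro s t
      rcases Int.units_eq_one_or s with rfl | rfl <;> rcases Int.units_eq_one_or t with rfl | rfl
      · exact ⟨1, W.one_mem, by simp, by simp⟩
      · exact ⟨q, hq, q1, q2⟩
      · exact ⟨p, hp, p1, p2⟩
      · exact ⟨p * q, W.mul_mem hp hq, by simp [p1, q1], by simp [p2, q2]⟩
    refine eq_top_iff.2 fun w _ => ?_
    obtain ⟨x, hx, e1, e2⟩ := main (Equiv.Perm.sign w.1) (Equiv.Perm.sign w.2)
    exact mem_of_sign_eq hm hn hx e1.symm e2.symm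

end Subdirect

/-! ### Trivial Fitting subgroup -/

theorem fitting_eq_bot_of_alt {X : Type*} [Group X] [Finite X] {n : ℕ} (h5 : 5 ≤ n)
    (f : X →* Perm (Fin n)) (hinj : Function.Injective f) (hf : alternatingGroup (Fin n) ≤ f.range) :
    Cfsg.fittingSubgroup X = ⊥ := by
  by_contra hne
  have := isSimpleGroup_alt h5
  have := FittingCores.fitting_normal (G := X)
  have := FittingCores.fitting_nilpotent (G := X)
  have hle := alt_le_map h5 f hf (Cfsg.fittingSubgroup X)
    fun h => hne (eq_bot_iff.2 (h.trans ((MonoidHom.ker_eq_bot_iff f).2 hinj).le))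
  have hnilm : Group.IsNilpotent ((Cfsg.fittingSubgroup X).map f) :=
    Group.nilpotent_of_surjective _ (f.subgroupMap_surjective _)
  have : Group.IsNilpotent (alternatingGroup (Fin n)) := Components.isNilpotent_mono hle
  have htop : Subgroup.center (alternatingGroup (Fin n)) = ⊤ :=
    ((inferInstance : (Subgroup.center (alternatingGroup (Fin n))).Normal).eq_bot_or_eq_top).resolve_left
      (Group.IsNilpotent.center_ne_bot _)
  rw [alternatingGroup.center_eq_bot (by simpa using (by omega : 4 ≤ n))] at htop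
  exact bot_ne_top htop

end Cfsg.Agent.TW
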