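import Cfsg.Agent.Lib.TW.Local
import Cfsg.Agent.Lib.Components.Local

/-!
The Thompson–Wielandt theorem for a pair of conjugate core-free maximal subgroups: the second
iterated cores generate a `p`-group and everything in sight has characteristic `p`.
-/

namespace Cfsg.Agent.TW

open Subgroup

variable {G : Type*} [Group G]

/-- The largest subgroup of `Y ⊓ M` normalised by `M`. -/
def coreIn (M Y : Subgroup G) : Subgroup G := (Y.subgroupOf M).normalCore.map M.subtype

theorem coreIn_le_left (M Y : Subgroup G) : coreIn M Y ≤ M := map_subtype_le _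

theorem coreIn_le (M Y : Subgroup G) : coreIn M Y ≤ Y := by
  rintro _ ⟨x, hx, rfl⟩
  exact (Y.subgroupOf M).normalCore_le hx

theorem le_normalizer_coreIn (M Y : Subgroup G) : M ≤ normalizer (coreIn M Y : Set G) := by
  refine (normal_subgroupOf_iff_le_normalizer (coreIn_le_left M Y)).1 ?_
  rw [coreIn, subgroupOf, comap_map_eq_self_of_injective M.subtype_injective]
  infer_instance

theorem le_coreIn {M Y X : Subgroup G} (hM : X ≤ M) (hY : X ≤ Y)
    (hn : M ≤ normalizer (X : Set G)) : X ≤ coreIn M Y := by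
  haveI : (X.subgroupOf M).Normal := (normal_subgroupOf_iff_le_normalizer hM).2 hn
  rw [← map_subgroupOf_eq_of_le hM]
  exact map_mono ((normal_le_normalCore (N := X.subgroupOf M)).2 fun x hx => hY hx)

theorem mem_coreIn {M Y : Subgroup G} {x : G} (hx : x ∈ M) (h : ∀ m ∈ M, m * x * m⁻¹ ∈ Y) :
    x ∈ coreIn M Y :=
  ⟨⟨x, hx⟩, fun m => h m m.2, rfl⟩

/-- `M ∩ N` with its core in `M`. -/
def fstCore (M N : Subgroup G) : Subgroup G := coreIn M (M ⊓ N)

/-- The second iterated core. -/
def sndCore (M N : Subgroup G) : Subgroup G := coreIn M (fstCore M N ⊓ fstCore N M)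

/-- The hypotheses of the theorem. -/
structure TWPair (M N : Subgroup G) : Prop where
  maxL : IsCoatom M
  coreL : M.normalCore = ⊥
  maxR : IsCoatom N
  coreR : N.normalCore = ⊥
  ne : M ≠ N
  conj : ∃ g : G, N = M.map (MulAut.conj g).toMonoidHom
  sndL : sndCore M N ≠ ⊥
  sndR : sndCore N M ≠ ⊥

variable {M N : Subgroup G}

theorem TWPair.swap (h : TWPair M N) : TWPair N M := by
  obtain ⟨g, hg⟩ := h.conj
  refine ⟨h.maxR, h.coreR, h.maxL, h.coreL, h.ne.symm, ⟨g⁻¹, ?_⟩, h.sndR, h.sndL⟩
  rw [hg, map_map]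
  convert (map_id M).symm using 2
  ext x
  simp [mul_assoc]

theorem normalizer_le_of_max (hmax : IsCoatom M) (hcore : M.normalCore = ⊥) {X : Subgroup G}
    (hX : X ≤ M) (hn : M ≤ normalizer (X : Set G)) (hne : X ≠ ⊥) :
    normalizer (X : Set G) ≤ M := by
  rcases hmax.le_iff.1 hn with h | h
  · haveI := normalizer_eq_top_iff.1 h
    exact absurd (eq_bot_iff.2 (((normal_le_normalCore (N := X)).2 hX).trans (le_of_eq hcore))) hne
  · exact h.le

theorem TWPair.common (h : TWPair M N) {X : Subgroup G} (hX : X ≤ M)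
    (hM : M ≤ normalizer (X : Set G)) (hN : N ≤ normalizer (X : Set G)) : X = ⊥ := by
  by_contra hne
  rcases h.maxR.le_iff.1 (hN.trans (normalizer_le_of_max h.maxL h.coreL hX hM hne)) with e | e
  · exact h.maxL.1 e
  · exact h.ne e

theorem fstCore_le_left (M N : Subgroup G) : fstCore M N ≤ M := coreIn_le_left _ _

theorem fstCore_le (M N : Subgroup G) : fstCore M N ≤ N := (coreIn_le _ _).trans inf_le_right

theorem sndCore_le (M N : Subgroup G) : sndCore M N ≤ fstCore N M :=
  (coreIn_le _ _).trans inf_le_right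

theorem sndCore_le_fst (M N : Subgroup G) : sndCore M N ≤ fstCore M N :=
  (coreIn_le _ _).trans inf_le_left

theorem sndCore_le_left (M N : Subgroup G) : sndCore M N ≤ M := coreIn_le_left _ _

theorem fstCore_subnormal (M N : Subgroup G) : SubnormalIn (fstCore M N) M :=
  .of_normalizes (fstCore_le_left M N) (le_normalizer_coreIn _ _)

/-- A subgroup of `A₂` normalised by `M` is subnormal in `N`. -/
theorem subnormal_of_le_snd {X : Subgroup G} (hX : X ≤ sndCore M N)
    (hn : M ≤ normalizer (X : Set G)) : SubnormalIn X N :=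
  (SubnormalIn.of_normalizes (hX.trans (sndCore_le M N))
    (((fstCore_le N M)).trans hn)).trans (fstCore_subnormal N M)

theorem TWPair.normalizer_snd (h : TWPair M N) : normalizer (sndCore N M : Set G) ≤ N :=
  normalizer_le_of_max h.maxR h.coreR (sndCore_le_left N M) (le_normalizer_coreIn _ _) h.sndR

theorem le_normalizer_inf {X Y A : Subgroup G} (h1 : A ≤ normalizer (X : Set G))
    (h2 : A ≤ normalizer (Y : Set G)) : A ≤ normalizer ((X ⊓ Y : Subgroup G) : Set G) := by
  intro a ha
  rw [mem_normalizer_iff]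
  intro x
  show x ∈ X ∧ x ∈ Y ↔ a * x * a⁻¹ ∈ X ∧ a * x * a⁻¹ ∈ Y
  rw [← mem_normalizer_iff.1 (h1 ha) x, ← mem_normalizer_iff.1 (h2 ha) x]

theorem le_normalizer_centralizerIn {X A : Subgroup G} (h1 : A ≤ normalizer (X : Set G)) :
    A ≤ normalizer ((A ⊓ centralizer (X : Set G) : Subgroup G) : Set G) := by
  refine le_normalizer_inf le_normalizer ?_
  intro a ha
  have hN := mem_normalizer_iff.1 (h1 ha)
  rw [mem_normalizer_iff]
  intro x
  simp only [mem_centralizer_iff, SetLike.mem_coe]
  constructor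
  · intro hx y hy
    have h := hx (a⁻¹ * y * a) (by rw [hN]; simpa [mul_assoc] using hy)
    calc y * (a * x * a⁻¹) = a * ((a⁻¹ * y * a) * x) * a⁻¹ := by group
      _ = a * (x * (a⁻¹ * y * a)) * a⁻¹ := by rw [h]
      _ = a * x * a⁻¹ * y := by group
  · intro hx y hy
    have h := hx (a * y * a⁻¹) ((hN y).1 hy)
    calc y * x = a⁻¹ * ((a * y * a⁻¹) * (a * x * a⁻¹)) * a := by group
      _ = a⁻¹ * ((a * x * a⁻¹) * (a * y * a⁻¹)) * a := by rw [h]
      _ = x * y := by group

variable [Finite G]

/-- The stabilisers have no components. -/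
theorem TWPair.layerIn_eq_bot (h : TWPair M N) : layerIn M = ⊥ := by
  have hB2 : SubnormalIn (sndCore N M) M :=
    subnormal_of_le_snd le_rfl (le_normalizer_coreIn _ _)
  have hE2 : layerIn M ≤ N := (layerIn_le_normalizer hB2).trans h.normalizer_snd
  have hEA : layerIn M ≤ fstCore M N :=
    le_coreIn (layerIn_le M) (le_inf (layerIn_le M) hE2) (le_normalizer_layerIn M)
  have hC : N ⊓ centralizer (fstCore N M : Set G) ≤ fstCore N M := by
    have hn := le_normalizer_centralizerIn (le_normalizer_coreIn N (N ⊓ M))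
    refine le_coreIn inf_le_left (le_inf inf_le_left ?_) hn
    refine inf_le_right.trans ?_
    refine ((centralizer_le (SetLike.coe_subset_coe.2 (sndCore_le M N))).trans
      (centralizer_le_normalizer _)).trans ?_
    exact normalizer_le_of_max h.maxL h.coreL (sndCore_le_left M N) (le_normalizer_coreIn _ _) h.sndL
  have hEB : layerIn M ≤ fstCore N M := by
    rw [layerIn, map_le_iff_le_comap, Components.layer_le_iff]
    intro L hL
    rw [← map_le_iff_le_comap]
    set K := L.map M.subtype with hK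
    have hKE : K ≤ layerIn M := map_mono (Components.component_le_layer hL)
    have hKD : K ≤ M ⊓ N := le_inf (map_subtype_le _) (hKE.trans hE2)
    have hs : SubnormalIn K (M ⊓ N) := by
      refine SubnormalIn.restrict (A := M) ⟨map_subtype_le _, ?_⟩ hKD inf_le_left
      rw [hK, subgroupOf, comap_map_eq_self_of_injective M.subtype_injective]
      exact hL.1
    have hKc : Cfsg.IsComponent (K.subgroupOf (M ⊓ N)) :=
      ⟨hs.2, (Components.quasisimple_congr
        ((L.equivMapOfInjective _ M.subtype_injective).trans (subgroupOfEquivOfLe hs.1).symm)).1 hL.2⟩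
    have hBD : fstCore N M ≤ M ⊓ N := le_inf (fstCore_le N M) (fstCore_le_left N M)
    have hBn : ((fstCore N M).subgroupOf (M ⊓ N)).IsSubnormal :=
      ((normal_subgroupOf_iff_le_normalizer hBD).2
        (inf_le_right.trans (le_normalizer_coreIn _ _))).isSubnormal
    rcases Components.component_le_or_commute hKc hBn with hle | hcomm
    · exact fun x hx => hle (show (⟨x, hKD hx⟩ : ↥(M ⊓ N)) ∈ K.subgroupOf (M ⊓ N) from hx)
    · refine (le_inf (hKD.trans inf_le_right) ?_).trans hC
      intro x hx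
      rw [mem_centralizer_iff]
      intro y hy
      have := commutator_eq_bot_iff_le_centralizer.1 hcomm
        (show (⟨x, hKD hx⟩ : ↥(M ⊓ N)) ∈ K.subgroupOf (M ⊓ N) from hx)
      exact congrArg Subtype.val (mem_centralizer_iff.1 this ⟨y, hBD hy⟩ hy)
  have hle : layerIn M ≤ layerIn N :=
    layerIn_le_layerIn (fstCore_subnormal N M) (fstCore_le N M) hEB
  obtain ⟨g, hg⟩ := h.conj
  have heq : layerIn M = layerIn N := Subgroup.eq_of_le_of_card_ge hle (le_of_eq (by
    rw [hg, layerIn_map_conj, Subgroup.card_map_of_injective (MulAut.conj g).injective]))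
  exact h.common (layerIn_le M) (le_normalizer_layerIn M) (heq ▸ le_normalizer_layerIn N)

theorem layer_eq_bot_of_layerIn {S : Subgroup G} (h : layerIn S = ⊥) : Cfsg.layer ↥S = ⊥ :=
  (Subgroup.map_eq_bot_iff_of_injective _ S.subtype_injective).1 h

theorem TWPair.fstar_eq_fitting (h : TWPair M N) :
    Cfsg.generalizedFittingSubgroup ↥M = Cfsg.fittingSubgroup ↥M := by
  rw [Cfsg.generalizedFittingSubgroup, layer_eq_bot_of_layerIn h.layerIn_eq_bot, bot_sup_eq]

/-- Commuting of cores at different primes. -/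
theorem le_centralizer_of_ne {X Y : Subgroup G} {r s : ℕ} (hr : r.Prime) (hs : s.Prime) (hrs : r ≠ s)
    (hX : IsPGroup r X) (hY : IsPGroup s Y) (hXY : X ≤ normalizer (Y : Set G))
    (hYX : Y ≤ normalizer (X : Set G)) : X ≤ centralizer (Y : Set G) := by
  haveI := Fact.mk hr
  haveI := Fact.mk hs
  rw [← commutator_eq_bot_iff_le_centralizer, eq_bot_iff]
  exact (Components.commutator_le_inf_of_normalizer hYX hXY).trans
    (hX.disjoint_of_ne r s hrs X Y hY).le_bot

theorem TWPair.exists_prime_snd (h : TWPair M N) :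
    ∃ p : ℕ, p.Prime ∧ opCore p M ⊓ sndCore M N ≠ ⊥ := by
  by_contra hcon
  push Not at hcon
  set K := (sndCore M N).subgroupOf M with hK
  haveI hKn : K.Normal :=
    (normal_subgroupOf_iff_le_normalizer (sndCore_le_left M N)).2 (le_normalizer_coreIn _ _)
  have hKne : K ≠ ⊥ := by
    intro e
    apply h.sndL
    rw [← map_subgroupOf_eq_of_le (sndCore_le_left M N), ← hK, e, Subgroup.map_bot]
  have hint : ∀ q : ℕ, q.Prime → Cfsg.pCore q ↥M ⊓ K = ⊥ := by
    intro q hq
    rw [← Subgroup.map_eq_bot_iff_of_injective _ M.subtype_injective, map_inf _ _ _ M.subtype_injective,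
      hK, map_subgroupOf_eq_of_le (sndCore_le_left M N)]
    exact hcon q hq
  have hKF : K ≤ Cfsg.fittingSubgroup ↥M := by
    rw [← h.fstar_eq_fitting]
    refine le_trans ?_ Components.centralizer_generalizedFitting_le
    rw [h.fstar_eq_fitting, le_centralizer_iff, FittingCores.fitting_eq_iSup_pCore]
    refine iSup_le fun q => ?_
    haveI := FittingCores.pCore_normal (G := ↥M) (q : ℕ)
    rw [← commutator_eq_bot_iff_le_centralizer, eq_bot_iff]
    exact (Components.commutator_le_inf_of_normalizer le_normalizer_of_normal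
      le_normalizer_of_normal).trans (le_of_eq (hint q q.2))
  haveI := Components.fittingSubgroup_nilpotent (G := ↥M)
  haveI : Group.IsNilpotent ↥K := Components.isNilpotent_mono hKF
  obtain ⟨q, hq, hdvd⟩ := Nat.exists_prime_and_dvd
    (show Nat.card ↥K ≠ 1 from fun e => hKne (Subgroup.card_eq_one.1 e))
  haveI := Fact.mk hq
  have hP := FittingCores.sylow_le_pCore_of_nilpotent hKn q (default : Sylow q ↥K)
  have hb : ((default : Sylow q ↥K) : Subgroup ↥K).map K.subtype = ⊥ :=
    eq_bot_iff.2 ((le_inf hP (map_subtype_le _)).trans (le_of_eq (hint q hq)))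
  rw [Subgroup.map_eq_bot_iff_of_injective _ K.subtype_injective] at hb
  exact (Sylow.ne_bot_of_dvd_card (default : Sylow q ↥K) hdvd) hb

/-- Cores of `N` at other primes lie in the first core. -/
theorem TWPair.other_le (h : TWPair M N) {p r : ℕ} (hp : p.Prime) (hr : r.Prime) (hrp : r ≠ p)
    (hne : opCore p M ⊓ sndCore M N ≠ ⊥) : opCore r N ≤ fstCore N M := by
  set X := opCore p M ⊓ sndCore M N
  have hXn : M ≤ normalizer (X : Set G) :=
    le_normalizer_inf (le_normalizer_opCore p M) (le_normalizer_coreIn _ _)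
  have hXN : X ≤ opCore p N :=
    le_opCore (subnormal_of_le_snd inf_le_right hXn) ((opCore_isPGroup p M).to_le inf_le_left)
  have h1 : opCore r N ≤ M :=
    (((le_centralizer_of_ne hr hp hrp (opCore_isPGroup r N) (opCore_isPGroup p N)
      ((opCore_le r N).trans (le_normalizer_opCore p N))
      ((opCore_le p N).trans (le_normalizer_opCore r N))).trans
      (centralizer_le (SetLike.coe_subset_coe.2 hXN))).trans (centralizer_le_normalizer _)).trans
      (normalizer_le_of_max h.maxL h.coreL (inf_le_left.trans (opCore_le p M)) hXn hne)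
  exact le_coreIn (opCore_le r N) (le_inf (opCore_le r N) h1) (le_normalizer_opCore r N)

/-- `O_r(M ∩ N) = O_r(M)` away from the prime of `B₂`. -/
theorem TWPair.opCore_inf_eq (h : TWPair M N) {q r : ℕ} (hq : q.Prime) (hr : r.Prime) (hrq : r ≠ q)
    (hne : opCore q N ⊓ sndCore N M ≠ ⊥) : opCore r (M ⊓ N) = opCore r M := by
  have hA : opCore r M ≤ fstCore M N := h.swap.other_le hq hr hrq hne
  refine le_antisymm ?_ (le_opCore (.of_normalizes
    (hA.trans (le_inf (fstCore_le_left M N) (fstCore_le M N)))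
    (inf_le_left.trans (le_normalizer_opCore r M))) (opCore_isPGroup r M))
  set Q := opCore q M ⊓ fstCore M N
  set X := opCore q N ⊓ sndCore N M
  have hQn : M ≤ normalizer (Q : Set G) :=
    le_normalizer_inf (le_normalizer_opCore q M) (le_normalizer_coreIn _ _)
  have hQD : Q ≤ opCore q (M ⊓ N) := le_opCore (.of_normalizes
    (inf_le_right.trans (le_inf (fstCore_le_left M N) (fstCore_le M N))) (inf_le_left.trans hQn))
    ((opCore_isPGroup q M).to_le inf_le_left)
  have hXn : N ≤ normalizer (X : Set G) :=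
    le_normalizer_inf (le_normalizer_opCore q N) (le_normalizer_coreIn _ _)
  have hXQ : X ≤ Q :=
    le_inf (le_opCore (subnormal_of_le_snd inf_le_right hXn)
      ((opCore_isPGroup q N).to_le inf_le_left)) (inf_le_right.trans (sndCore_le N M))
  have hC : M ⊓ centralizer (Q : Set G) ≤ fstCore M N := by
    refine le_coreIn inf_le_left (le_inf inf_le_left ?_) (le_normalizer_centralizerIn hQn)
    exact ((inf_le_right.trans (centralizer_le (SetLike.coe_subset_coe.2 hXQ))).trans
      (centralizer_le_normalizer _)).trans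
      (normalizer_le_of_max h.maxR h.coreR (inf_le_left.trans (opCore_le q N)) hXn hne)
  have hRA : opCore r (M ⊓ N) ≤ fstCore M N := by
    refine le_trans (le_inf ((opCore_le _ _).trans inf_le_left) ?_) hC
    exact (le_centralizer_of_ne hr hq hrq (opCore_isPGroup r _) (opCore_isPGroup q _)
      ((opCore_le _ _).trans (le_normalizer_opCore _ _))
      ((opCore_le _ _).trans (le_normalizer_opCore _ _))).trans
      (centralizer_le (SetLike.coe_subset_coe.2 hQD))
  exact le_opCore ((SubnormalIn.of_normalizes hRA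
    ((le_inf (fstCore_le_left M N) (fstCore_le M N)).trans (le_normalizer_opCore _ _))).trans
    (fstCore_subnormal M N)) (opCore_isPGroup r _)

theorem TWPair.exists_common_prime (h : TWPair M N) :
    ∃ p : ℕ, p.Prime ∧ opCore p M ⊓ sndCore M N ≠ ⊥ ∧ opCore p N ⊓ sndCore N M ≠ ⊥ := by
  obtain ⟨p, hp, hpne⟩ := h.exists_prime_snd
  obtain ⟨q, hq, hqne⟩ := h.swap.exists_prime_snd
  rcases eq_or_ne p q with rfl | hpq
  · exact ⟨p, hp, hpne, hqne⟩
  refine ⟨q, hq, ?_, hqne⟩
  set Q := opCore q M ⊓ fstCore M N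
  set X := opCore q N ⊓ sndCore N M
  have hQn : M ≤ normalizer (Q : Set G) :=
    le_normalizer_inf (le_normalizer_opCore q M) (le_normalizer_coreIn _ _)
  have hQD : Q ≤ opCore q (M ⊓ N) := le_opCore (.of_normalizes
    (inf_le_right.trans (le_inf (fstCore_le_left M N) (fstCore_le M N))) (inf_le_left.trans hQn))
    ((opCore_isPGroup q M).to_le inf_le_left)
  have hXn : N ≤ normalizer (X : Set G) :=
    le_normalizer_inf (le_normalizer_opCore q N) (le_normalizer_coreIn _ _)
  have hXQ : X ≤ Q :=
    le_inf (le_opCore (subnormal_of_le_snd inf_le_right hXn)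
      ((opCore_isPGroup q N).to_le inf_le_left)) (inf_le_right.trans (sndCore_le N M))
  have hQB : Q ≤ fstCore N M := by
    refine hQD.trans ?_
    rw [inf_comm, h.swap.opCore_inf_eq hp hq hpq.symm hpne]
    exact h.other_le hp hq hpq.symm hpne
  have hQ2 : Q ≤ opCore q M ⊓ sndCore M N :=
    le_inf inf_le_left (le_coreIn (inf_le_left.trans (opCore_le q M)) (le_inf inf_le_right hQB) hQn)
  exact fun e => hqne (eq_bot_iff.2 ((hXQ.trans hQ2).trans e.le))

theorem TWPair.opCore_eq_bot (h : TWPair M N) {p r : ℕ} (hp : p.Prime) (hr : r.Prime) (hrp : r ≠ p)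
    (h1 : opCore p M ⊓ sndCore M N ≠ ⊥) (h2 : opCore p N ⊓ sndCore N M ≠ ⊥) : opCore r M = ⊥ := by
  have e : opCore r M = opCore r N := by
    rw [← h.opCore_inf_eq hp hr hrp h2, inf_comm, h.swap.opCore_inf_eq hp hr hrp h1]
  exact h.common (opCore_le r M) (le_normalizer_opCore r M) (e ▸ le_normalizer_opCore r N)

theorem fstar_eq_pCore {S : Subgroup G} {p : ℕ} (hp : p.Prime) (hE : layerIn S = ⊥)
    (hr : ∀ r : ℕ, r.Prime → r ≠ p → opCore r S = ⊥) :
    Cfsg.generalizedFittingSubgroup ↥S = Cfsg.pCore p ↥S := by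
  rw [Cfsg.generalizedFittingSubgroup, layer_eq_bot_of_layerIn hE, bot_sup_eq]
  refine le_antisymm ?_ (FittingCores.pCore_le_fitting hp)
  rw [FittingCores.fitting_eq_iSup_pCore]
  refine iSup_le fun q => ?_
  by_cases hq : (q : ℕ) = p
  · rw [hq]
  · rw [(Subgroup.map_eq_bot_iff_of_injective _ S.subtype_injective).1 (hr q q.2 hq)]
    exact bot_le

theorem TWPair.fstar_left (h : TWPair M N) {p : ℕ} (hp : p.Prime)
    (h1 : opCore p M ⊓ sndCore M N ≠ ⊥) (h2 : opCore p N ⊓ sndCore N M ≠ ⊥) :
    Cfsg.generalizedFittingSubgroup ↥M = Cfsg.pCore p ↥M ∧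
      Cfsg.generalizedFittingSubgroup ↥(fstCore M N) = Cfsg.pCore p ↥(fstCore M N) := by
  refine ⟨fstar_eq_pCore hp h.layerIn_eq_bot fun r hr hrp => h.opCore_eq_bot hp hr hrp h1 h2,
    fstar_eq_pCore hp ?_ fun r hr hrp => ?_⟩
  · exact eq_bot_iff.2 ((layerIn_le_layerIn (fstCore_subnormal M N) le_rfl (layerIn_le _)).trans
      h.layerIn_eq_bot.le)
  · refine eq_bot_iff.2 (le_trans (le_opCore ?_ (opCore_isPGroup r _))
      (h.opCore_eq_bot hp hr hrp h1 h2).le)
    exact (SubnormalIn.of_normalizes (opCore_le r _) (le_normalizer_opCore r _)).trans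
      (fstCore_subnormal M N)

theorem TWPair.isPGroup_snd (h : TWPair M N) {p : ℕ} (hp : p.Prime)
    (hne : opCore p M ⊓ sndCore M N ≠ ⊥) : IsPGroup p (sndCore M N) := by
  haveI := Fact.mk hp
  by_contra hcon
  set A := sndCore M N
  set X := pPart p A
  have hAs : SubnormalIn A N := subnormal_of_le_snd le_rfl (le_normalizer_coreIn _ _)
  have hAM : M ≤ normalizer (A : Set G) := le_normalizer_coreIn _ _
  have hX : normalizer (X : Set G) ≤ M :=
    normalizer_le_of_max h.maxL h.coreL ((pPart_le p A).trans (sndCore_le_left M N))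
      (fun g hg => pPart_conj fun x => mem_normalizer_iff.1 (hAM hg) x) (pPart_ne_bot hcon)
  set R := opCore p (M ⊓ N)
  set P := opCore p N
  obtain ⟨g, hg⟩ := h.conj
  have hcard : Nat.card P = Nat.card ↥(opCore p M) := by
    show Nat.card ↥(opCore p N) = _
    rw [hg, opCore_map_conj, Subgroup.card_map_of_injective (MulAut.conj g).injective]
  have hMne : opCore p M ≠ ⊥ := fun e => hne (by rw [e, bot_inf_eq])
  have hPne : P ≠ ⊥ := fun e => hMne (Subgroup.eq_bot_of_card_eq _ (by
    rw [← hcard, e, Subgroup.card_bot]))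
  have h1 : P ≤ M := (le_normalizer_pPart_in hAs (opCore_le p N) (le_normalizer_opCore p N)
    (opCore_isPGroup p N)).trans hX
  have hRB : R ≤ fstCore N M := by
    intro x hx
    have hxD := opCore_le p (M ⊓ N) hx
    refine mem_coreIn hxD.2 fun m hm => ⟨N.mul_mem (N.mul_mem hm hxD.2) (N.inv_mem hm), ?_⟩
    set c := (MulAut.conj m).toMonoidHom
    have hB : fstCore N M ≤ (M ⊓ N).map c := by
      intro y hy
      refine ⟨m⁻¹ * y * m, ?_, by simp [c, mul_assoc]⟩
      have hy' : m⁻¹ * y * m ∈ fstCore N M := by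
        rw [fstCore, mem_normalizer_iff.1 (le_normalizer_coreIn N (N ⊓ M) hm) (m⁻¹ * y * m)]
        simpa [mul_assoc, fstCore] using hy
      exact ⟨fstCore_le N M hy', fstCore_le_left N M hy'⟩
    have hDN : (M ⊓ N).map c ≤ N := by
      rintro _ ⟨y, hy, rfl⟩
      exact N.mul_mem (N.mul_mem hm hy.2) (N.inv_mem hm)
    have hAD : SubnormalIn A ((M ⊓ N).map c) := hAs.restrict ((sndCore_le M N).trans hB) hDN
    have hxc : m * x * m⁻¹ ∈ R.map c := ⟨x, hx, rfl⟩
    rw [show R.map c = opCore p ((M ⊓ N).map c) from (opCore_map_conj p _ m).symm] at hxc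
    exact hX (le_normalizer_pPart_in hAD (opCore_le p _) (le_normalizer_opCore p _)
      (opCore_isPGroup p _) hxc)
  have hRP : R ≤ P := le_opCore ((SubnormalIn.of_normalizes hRB
    ((le_inf (fstCore_le N M) (fstCore_le_left N M)).trans (le_normalizer_opCore _ _))).trans
    (fstCore_subnormal N M)) (opCore_isPGroup p _)
  have h2 : opCore p M ⊓ N ≤ P := le_trans (le_opCore (.of_normalizes
    (le_inf (inf_le_left.trans (opCore_le p M)) inf_le_right)
    (le_normalizer_inf (inf_le_left.trans (le_normalizer_opCore p M))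
      (inf_le_right.trans le_normalizer))) ((opCore_isPGroup p M).to_le inf_le_left)) hRP
  have h3 : opCore p M ≤ P :=
    le_of_normalizer_le (opCore_isPGroup p N) (opCore_isPGroup p M)
      (h1.trans (le_normalizer_opCore p M))
      (normalizer_le_of_max h.maxR h.coreR (opCore_le p N) (le_normalizer_opCore p N) hPne) h2
  have heq : opCore p M = P := Subgroup.eq_of_le_of_card_ge h3 hcard.le
  exact hMne (h.common (opCore_le p M) (le_normalizer_opCore p M)
    (heq ▸ le_normalizer_opCore p N))

theorem TWPair.main (h : TWPair M N) :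
    ∃ p : ℕ, p.Prime ∧ IsPGroup p ↥(sndCore M N ⊔ sndCore N M) ∧
      Cfsg.generalizedFittingSubgroup ↥M = Cfsg.pCore p ↥M ∧
      Cfsg.generalizedFittingSubgroup ↥(fstCore M N) = Cfsg.pCore p ↥(fstCore M N) ∧
      Cfsg.generalizedFittingSubgroup ↥N = Cfsg.pCore p ↥N ∧
      Cfsg.generalizedFittingSubgroup ↥(fstCore N M) = Cfsg.pCore p ↥(fstCore N M) := by
  obtain ⟨p, hp, h1, h2⟩ := h.exists_common_prime
  refine ⟨p, hp, ?_, (h.fstar_left hp h1 h2).1, (h.fstar_left hp h1 h2).2,
    (h.swap.fstar_left hp h2 h1).1, (h.swap.fstar_left hp h2 h1).2⟩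
  exact (h.isPGroup_snd hp h1).to_sup_of_normal_right' (h.swap.isPGroup_snd hp h2)
    (((sndCore_le M N).trans (fstCore_le_left N M)).trans (le_normalizer_coreIn _ _))

end Cfsg.Agent.TW
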