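import Cfsg.Agent.Lib.TW.AltGroup
import Cfsg.Agent.Lib.TW.Pair

/-!
Two subgroups `H`, `J` meeting in `D`, each acting as a symmetric or alternating group on `d ≥ 6`
points with `D` a point stabiliser and without a common normal subgroup: the structure of `H`.
-/

namespace Cfsg.Agent.TW

open Equiv Subgroup

variable {G : Type*} [Group G]

/-- An action of `H` on `d` points with `H ⊓ J` the stabiliser of a point. -/
structure Act (H J : Subgroup G) (d : ℕ) where
  π : H →* Perm (Fin d)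
  pt : Fin d
  stab : ∀ h : H, (h : G) ∈ J ↔ π h pt = pt

namespace Act

variable {H J : Subgroup G} {d : ℕ} (A : Act H J d)

/-- The kernel of the action. -/
def K : Subgroup G := A.π.ker.map H.subtype

theorem mem_K {x : G} : x ∈ A.K ↔ ∃ hx : x ∈ H, A.π ⟨x, hx⟩ = 1 :=
  ⟨fun ⟨y, hy, e⟩ => e ▸ ⟨y.2, hy⟩, fun ⟨hx, h⟩ => ⟨⟨x, hx⟩, h, rfl⟩⟩

theorem K_le_left : A.K ≤ H := map_subtype_le _

theorem K_le : A.K ≤ H ⊓ J := fun x hx => by
  obtain ⟨hxH, h⟩ := A.mem_K.1 hx
  exact ⟨hxH, (A.stab ⟨x, hxH⟩).2 (by rw [h]; rfl)⟩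

theorem K_subgroupOf : A.K.subgroupOf H = A.π.ker := by
  rw [K, subgroupOf, comap_map_eq_self_of_injective H.subtype_injective]

theorem le_normalizer_K : H ≤ normalizer (A.K : Set G) := by
  refine (normal_subgroupOf_iff_le_normalizer A.K_le_left).1 ?_
  rw [A.K_subgroupOf]
  infer_instance

theorem card_K : Nat.card A.K * Nat.card A.π.range = Nat.card H := by
  rw [K, card_map_of_injective H.subtype_injective, ← index_ker, card_mul_index]

/-- The image of a normal subgroup outside the kernel. -/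
theorem alt_le_image (h5 : 5 ≤ d) (hbig : A.π.range.index ≤ 2) {N : Subgroup G}
    (hN : N ≤ H) (hn : H ≤ normalizer (N : Set G)) (hne : ¬ N ≤ A.K) :
    alternatingGroup (Fin d) ≤ (N.subgroupOf H).map A.π := by
  have : (N.subgroupOf H).Normal := (normal_subgroupOf_iff_le_normalizer hN).2 hn
  refine alt_le_map h5 A.π (Equiv.Perm.alternatingGroup_le_of_index_le_two hbig) _ fun h => hne ?_
  intro x hx
  exact A.mem_K.2 ⟨hN hx, h (show (⟨x, hN hx⟩ : H) ∈ N.subgroupOf H from hx)⟩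

/-- A subgroup with big image is transitive. -/
theorem exists_mul (h3 : 3 ≤ d) {N : Subgroup G}
    (hN : alternatingGroup (Fin d) ≤ (N.subgroupOf H).map A.π) (h : H) :
    ∃ x : G, x ∈ H ⊓ J ∧ (h : G) * x⁻¹ ∈ N := by
  have : MulAction.IsPretransitive (alternatingGroup (Fin d)) (Fin d) :=
    alternatingGroup.isPretransitive_of_three_le_card _ (by simpa using h3)
  obtain ⟨k, hk⟩ := MulAction.exists_smul_eq (alternatingGroup (Fin d)) (A.π h A.pt) A.pt
  obtain ⟨n, hn, hnk⟩ := hN k.2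
  refine ⟨(n : G) * h, ⟨H.mul_mem n.2 h.2, (A.stab (n * h)).2 ?_⟩, ?_⟩
  · rw [map_mul, hnk]
    exact hk
  · rw [mul_inv_rev, mul_inv_cancel_left]
    exact N.inv_mem hn

/-- The action of the point stabiliser on the other points. -/
noncomputable def ρ : ↥(H ⊓ J) →* Perm (Fin (d - 1)) :=
  (restrPt A.pt).comp ((A.π.comp (inclusion inf_le_left)).codRestrict
    (MulAction.stabilizer (Perm (Fin d)) A.pt) fun x => (A.stab ⟨x, x.2.1⟩).1 x.2.2)

theorem ρ_eq_one_iff {x : ↥(H ⊓ J)} : A.ρ x = 1 ↔ (x : G) ∈ A.K := by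
  refine (map_eq_one_iff (restrPt A.pt) (restrPt_injective A.pt)).trans ⟨fun h => ?_, fun h => ?_⟩
  · exact A.mem_K.2 ⟨x.2.1, congrArg Subtype.val h⟩
  · obtain ⟨_, h⟩ := A.mem_K.1 h
    exact Subtype.ext h

theorem sign_ρ (x : ↥(H ⊓ J)) :
    Equiv.Perm.sign (A.ρ x) = Equiv.Perm.sign (A.π ⟨x, x.2.1⟩) :=
  sign_restrPt _ _

theorem mem_ρ_range (q : Perm (Fin (d - 1)))
    (hq : ∀ f, Equiv.Perm.sign f = Equiv.Perm.sign q → f ∈ A.π.range) : q ∈ A.ρ.range := by
  obtain ⟨f, hf⟩ := restrPt_surjective A.pt q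
  obtain ⟨h, hh⟩ := hq f (by rw [← hf, sign_restrPt])
  have hJ : (h : G) ∈ J := (A.stab h).2 (by rw [hh]; exact f.2)
  exact ⟨⟨h, h.2, hJ⟩, (congrArg (restrPt A.pt) (Subtype.ext hh)).trans hf⟩

theorem alt_le_ρ (hbig : A.π.range.index ≤ 2) : alternatingGroup (Fin (d - 1)) ≤ A.ρ.range :=
  fun q hq => A.mem_ρ_range q fun f hf => Equiv.Perm.alternatingGroup_le_of_index_le_two hbig
    (by rw [Equiv.Perm.mem_alternatingGroup, hf, Equiv.Perm.mem_alternatingGroup.1 hq])

theorem ρ_range_eq_top (h : A.π.range = ⊤) : A.ρ.range = ⊤ :=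
  eq_top_iff.2 fun q _ => A.mem_ρ_range q fun f _ => h ▸ Subgroup.mem_top f

theorem ρ_range_le (h : A.π.range = alternatingGroup (Fin d)) :
    A.ρ.range ≤ alternatingGroup (Fin (d - 1)) := by
  rintro _ ⟨x, rfl⟩
  rw [Equiv.Perm.mem_alternatingGroup, A.sign_ρ]
  exact Equiv.Perm.mem_alternatingGroup.1 (h ▸ ⟨_, rfl⟩ : A.π ⟨x, x.2.1⟩ ∈ alternatingGroup (Fin d))

end Act

variable [Finite G]

theorem fittingSubgroup_eq_bot_of_opCore {D : Subgroup G}
    (hc : ∀ p : ℕ, p.Prime → opCore p D = ⊥) : Cfsg.fittingSubgroup D = ⊥ := by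
  rw [FittingCores.fitting_eq_iSup_pCore, iSup_eq_bot]
  exact fun p => (Subgroup.map_eq_bot_iff_of_injective _ D.subtype_injective).1 (hc p p.2)

/-- A finite group without components and with trivial cores is trivial. -/
theorem eq_bot_of_no_fstar {X : Type*} [Group X] [Finite X] (hE : Cfsg.layer X = ⊥)
    (hF : Cfsg.fittingSubgroup X = ⊥) (x : X) : x = 1 := by
  have hg : Cfsg.generalizedFittingSubgroup X = ⊥ := by
    rw [Cfsg.generalizedFittingSubgroup, hE, hF, bot_sup_eq]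
  have h := Components.centralizer_generalizedFitting_le (G := X)
  rw [hg] at h
  rw [← Subgroup.mem_bot]
  refine h (mem_centralizer_iff.2 fun y hy => ?_)
  rw [Subgroup.coe_bot, Set.mem_singleton_iff] at hy
  simp [hy]

/-- A component of `K` centralises or lies in a normal subgroup with trivial centraliser. -/
theorem layerIn_le_of_centralizer {K M : Subgroup G} (hMK : M ≤ K)
    (hn : K ≤ normalizer (M : Set G)) (hC : K ⊓ centralizer (M : Set G) = ⊥) : layerIn K ≤ M := by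
  rw [layerIn, map_le_iff_le_comap, Components.layer_le_iff]
  intro L hL x hx
  have hs : (M.subgroupOf K).IsSubnormal :=
    ((normal_subgroupOf_iff_le_normalizer hMK).2 hn).isSubnormal
  rcases Components.component_le_or_commute hL hs with h | h
  · exact h hx
  · have hx' : (x : G) ∈ K ⊓ centralizer (M : Set G) := ⟨x.2, mem_centralizer_iff.2 fun y hy =>
      congrArg Subtype.val (mem_centralizer_iff.1 (commutator_eq_bot_iff_le_centralizer.1 h hx)
        ⟨y, hMK hy⟩ hy)⟩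
    rw [hC, Subgroup.mem_bot] at hx'
    show (x : G) ∈ M
    rw [hx']
    exact M.one_mem

theorem le_normalizer_layerIn' {K X : Subgroup G} (h : X ≤ normalizer (K : Set G)) :
    X ≤ normalizer (layerIn K : Set G) := by
  intro g hg
  rw [mem_normalizer_iff_map_conj_eq]
  exact (layerIn_map_conj K g).symm.trans (congrArg layerIn (mem_normalizer_iff_map_conj_eq.1 (h hg)))

/-- An abelian normal subgroup is trivial where all cores are. -/
theorem eq_bot_of_comm {D X : Subgroup G} (hc : ∀ p : ℕ, p.Prime → opCore p D = ⊥) (hX : X ≤ D)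
    (hn : D ≤ normalizer (X : Set G)) (hcomm : ∀ x ∈ X, ∀ y ∈ X, x * y = y * x) : X = ⊥ := by
  have hF : Cfsg.fittingSubgroup D = ⊥ := fittingSubgroup_eq_bot_of_opCore hc
  have hN : (X.subgroupOf D).Normal := (normal_subgroupOf_iff_le_normalizer hX).2 hn
  have hnil : Group.IsNilpotent (X.subgroupOf D) := by
    letI : CommGroup (X.subgroupOf D) :=
      { (inferInstance : Group (X.subgroupOf D)) with
        mul_comm := fun a b => Subtype.ext (Subtype.ext (hcomm _ a.2 _ b.2)) }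
    infer_instance
  have := (FittingCores.le_fitting hN hnil).trans hF.le
  rw [← map_subgroupOf_eq_of_le hX, le_bot_iff.1 this, Subgroup.map_bot]

/-- The second group acts as a symmetric or alternating group too. -/
theorem big_of_noAltSection {H J : Subgroup G} {d : ℕ} (h6 : 6 ≤ d) (A : Act H J d)
    (B : Act J H d) (hA : A.π.range.index ≤ 2) (e : H ≃* J) (hno : NoAltSection (H ⊓ J) d) :
    B.π.range.index ≤ 2 := by
  have := isSimpleGroup_alt (n := d) (by omega)
  set W := (alternatingGroup (Fin d)).comap A.π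
  let g : W →* alternatingGroup (Fin d) := (A.π.comp W.subtype).codRestrict _ fun x => x.2
  have hg : Function.Surjective g := fun t => by
    obtain ⟨h, hh⟩ := Equiv.Perm.alternatingGroup_le_of_index_le_two hA t.2
    exact ⟨⟨h, by show A.π h ∈ alternatingGroup (Fin d); rw [hh]; exact t.2⟩, Subtype.ext hh⟩
  let f : W →* Perm (Fin d) := B.π.comp (e.toMonoidHom.comp W.subtype)
  have hc : Nat.card (alternatingGroup (Fin d)) ≤ Nat.card f.range := by
    by_contra hlt
    refine hno.not_surjective (J.subtype.comp (e.toMonoidHom.comp (W.subtype.comp f.ker.subtype)))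
      (J.subtype_injective.comp (e.injective.comp (W.subtype_injective.comp f.ker.subtype_injective)))
      (fun x => ?_) _ (restrict_surjective g hg f (by omega))
    refine (inf_comm J H).le (B.K_le (B.mem_K.2 ⟨(e (x : W).1).2, ?_⟩))
    exact x.2
  have h2 : Nat.card f.range ≤ Nat.card B.π.range := Subgroup.card_le_of_le (by
    rw [MonoidHom.range_comp]
    exact map_le_range _ _)
  have h3 := B.π.range.index_mul_card
  rw [Nat.card_perm, Nat.card_fin, ← two_mul_card_alt (n := d) (by omega)] at h3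
  exact Nat.le_of_mul_le_mul_right (h3.le.trans (Nat.mul_le_mul_left 2 (hc.trans h2))) Nat.card_pos

/-- The kernel of the second action is non-trivial too. -/
theorem K_ne_bot {H J : Subgroup G} {d : ℕ} (h6 : 6 ≤ d) (A : Act H J d)
    (B : Act J H d) (hA : A.π.range.index ≤ 2) (hK : A.K ≠ ⊥) (e : H ≃* J)
    (hc : ∀ p : ℕ, p.Prime → opCore p (H ⊓ J) = ⊥) : B.K ≠ ⊥ := by
  intro hL
  have h1 := B.card_K
  rw [hL, card_bot, one_mul, ← Nat.card_congr e.toEquiv, ← A.card_K] at h1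
  have h2 : Nat.card B.π.range ≤ Nat.card (Perm (Fin d)) := card_le_card_group _
  rw [h1, Nat.card_perm, Nat.card_fin, ← two_mul_card_alt (n := d) (by omega)] at h2
  have h3 : Nat.card A.K ≤ 2 := Nat.le_of_mul_le_mul_right
    (h2.trans (Nat.mul_le_mul_left 2 (card_le_of_le
      (Equiv.Perm.alternatingGroup_le_of_index_le_two hA)))) Nat.card_pos
  have h4 : Nat.card A.K ≠ 1 := fun h => hK (card_eq_one.1 h)
  have h5 : 0 < Nat.card A.K := Nat.card_pos
  have hp : IsPGroup 2 A.K := IsPGroup.of_card (n := 1) (by omega)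
  exact hK (le_bot_iff.1 ((le_opCore (.of_normalizes A.K_le
    (inf_le_left.trans A.le_normalizer_K)) hp).trans (hc 2 Nat.prime_two).le))

/-- The hypotheses on a pair of adjacent stabilisers. -/
structure Setup (H J : Subgroup G) (d : ℕ) where
  six : 6 ≤ d
  A : Act H J d
  B : Act J H d
  bigA : A.π.range.index ≤ 2
  bigB : B.π.range.index ≤ 2
  e : H ≃* J
  common : ∀ X : Subgroup G, X ≤ H ⊓ J → H ≤ normalizer (X : Set G) → J ≤ normalizer (X : Set G) → X = ⊥
  cores : ∀ p : ℕ, p.Prime → opCore p (H ⊓ J) = ⊥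
  noSec : NoAltSection (H ⊓ J) d
  neA : A.K ≠ ⊥
  neB : B.K ≠ ⊥

namespace Setup

variable {H J : Subgroup G} {d : ℕ}

/-- The setup with the two groups exchanged. -/
def swap (S : Setup H J d) : Setup J H d where
  six := S.six
  A := S.B
  B := S.A
  bigA := S.bigB
  bigB := S.bigA
  e := S.e.symm
  common X hX h1 h2 := S.common X (hX.trans (inf_comm J H).le) h2 h1
  cores := inf_comm H J ▸ S.cores
  noSec := inf_comm H J ▸ S.noSec
  neA := S.neB
  neB := S.neA

variable (S : Setup H J d)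

theorem L_le : S.B.K ≤ H ⊓ J := S.B.K_le.trans (inf_comm J H).le

theorem D_le_normalizer_K : H ⊓ J ≤ normalizer (S.A.K : Set G) :=
  inf_le_left.trans S.A.le_normalizer_K

theorem D_le_normalizer_L : H ⊓ J ≤ normalizer (S.B.K : Set G) :=
  inf_le_right.trans S.B.le_normalizer_K

theorem D_le_normalizer_M : H ⊓ J ≤ normalizer ((S.A.K ⊓ S.B.K : Subgroup G) : Set G) :=
  le_normalizer_inf S.D_le_normalizer_K S.D_le_normalizer_L

/-- One of the centralisers of `K ∩ L` in `K` and `L` is non-trivial. -/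
theorem exists_centralizing :
    S.A.K ⊓ centralizer ((S.A.K ⊓ S.B.K : Subgroup G) : Set G) ≠ ⊥ ∨
      S.B.K ⊓ centralizer ((S.A.K ⊓ S.B.K : Subgroup G) : Set G) ≠ ⊥ := by
  by_contra h
  push Not at h
  set M := S.A.K ⊓ S.B.K
  have h1 : layerIn S.A.K ≤ M :=
    layerIn_le_of_centralizer inf_le_left (S.A.K_le.trans S.D_le_normalizer_M) h.1
  have h2 : layerIn S.B.K ≤ M :=
    layerIn_le_of_centralizer inf_le_right (S.L_le.trans S.D_le_normalizer_M) h.2
  have e : layerIn S.A.K = layerIn S.B.K := le_antisymm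
    (layerIn_le_layerIn (.of_normalizes inf_le_right (S.L_le.trans S.D_le_normalizer_M)) inf_le_left h1)
    (layerIn_le_layerIn (.of_normalizes inf_le_left (S.A.K_le.trans S.D_le_normalizer_M)) inf_le_right h2)
  have hE : layerIn S.A.K = ⊥ := S.common _ ((layerIn_le _).trans S.A.K_le)
    (le_normalizer_layerIn' S.A.le_normalizer_K)
    (e ▸ le_normalizer_layerIn' S.B.le_normalizer_K)
  have hF : Cfsg.fittingSubgroup S.A.K = ⊥ := fittingSubgroup_eq_bot_of_opCore fun p hp =>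
    le_bot_iff.1 ((le_opCore ((SubnormalIn.of_normalizes (opCore_le p _)
      (le_normalizer_opCore p _)).trans (.of_normalizes S.A.K_le S.D_le_normalizer_K))
      (opCore_isPGroup p _)).trans (S.cores p hp).le)
  refine S.neA (eq_bot_iff.2 fun x hx => ?_)
  rw [Subgroup.mem_bot]
  exact congrArg Subtype.val (eq_bot_of_no_fstar (layer_eq_bot_of_layerIn hE) hF ⟨x, hx⟩)

/-- A non-trivial centraliser of `K ∩ L` in `K` yields both centralisers of the kernels. -/
theorem centralizers_ne_bot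
    (hT : S.A.K ⊓ centralizer ((S.A.K ⊓ S.B.K : Subgroup G) : Set G) ≠ ⊥) :
    H ⊓ centralizer (S.A.K : Set G) ≠ ⊥ ∧ J ⊓ centralizer (S.B.K : Set G) ≠ ⊥ := by
  set T := S.A.K ⊓ centralizer ((S.A.K ⊓ S.B.K : Subgroup G) : Set G)
  have hTD : T ≤ H ⊓ J := inf_le_left.trans S.A.K_le
  have hTn : H ⊓ J ≤ normalizer (T : Set G) := by
    have hT' : T = S.A.K ⊓ ((H ⊓ J) ⊓ centralizer ((S.A.K ⊓ S.B.K : Subgroup G) : Set G)) := by
      rw [← inf_assoc, inf_eq_left.2 S.A.K_le]
    rw [hT']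
    exact le_normalizer_inf S.D_le_normalizer_K (le_normalizer_centralizerIn S.D_le_normalizer_M)
  have hTL : T ⊓ S.B.K = ⊥ := eq_bot_of_comm S.cores (inf_le_left.trans hTD)
    (le_normalizer_inf hTn S.D_le_normalizer_L)
    fun x hx y hy => (mem_centralizer_iff.1 hy.1.2 x ⟨hx.1.1, hx.2⟩)
  set C := J ⊓ centralizer (S.B.K : Set G)
  have hTC : T ≤ C := by
    refine le_inf (hTD.trans inf_le_right) ?_
    rw [← commutator_eq_bot_iff_le_centralizer, eq_bot_iff]
    exact (Components.commutator_le_inf_of_normalizer (S.L_le.trans hTn)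
      (hTD.trans S.D_le_normalizer_L)).trans hTL.le
  have hC : C ≠ ⊥ := fun h => hT (le_bot_iff.1 (h ▸ hTC))
  refine ⟨?_, hC⟩
  have hCn : J ≤ normalizer (C : Set G) := le_normalizer_centralizerIn S.B.le_normalizer_K
  have hCL : C ⊓ S.B.K = ⊥ := eq_bot_of_comm S.cores (inf_le_right.trans S.L_le)
    (le_normalizer_inf (inf_le_right.trans hCn) S.D_le_normalizer_L)
    fun x hx y hy => (mem_centralizer_iff.1 hy.1.2 x hx.2)
  set f : H →* Perm (Fin d) := S.B.π.comp S.e.toMonoidHom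
  set C0 : Subgroup H := (C.subgroupOf J).comap S.e.toMonoidHom
  have : (C.subgroupOf J).Normal := (normal_subgroupOf_iff_le_normalizer inf_le_left).2 hCn
  have hinj : ∀ x ∈ C0, f x = 1 → x = 1 := fun x hx h => by
    have h' : (S.e x : G) ∈ C ⊓ S.B.K := ⟨hx, S.B.mem_K.2 ⟨(S.e x).2, h⟩⟩
    rw [hCL, Subgroup.mem_bot] at h'
    exact S.e.map_eq_one_iff.1 (Subtype.ext h')
  have hdis : C0 ⊓ S.A.π.ker = ⊥ := by
    by_contra hne
    have hle : alternatingGroup (Fin d) ≤ (C0 ⊓ S.A.π.ker).map f := by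
      refine alt_le_map (by have := S.six; omega) f ?_ _ fun h => hne ?_
      · rw [MonoidHom.range_comp, MonoidHom.range_eq_top.2 S.e.surjective, ← MonoidHom.range_eq_map]
        exact Equiv.Perm.alternatingGroup_le_of_index_le_two S.bigB
      · exact eq_bot_iff.2 fun x hx => Subgroup.mem_bot.2 (hinj x hx.1 (h hx))
    set W := (alternatingGroup (Fin d)).comap f ⊓ (C0 ⊓ S.A.π.ker)
    refine S.noSec.not_surjective (H.subtype.comp W.subtype)
      (H.subtype_injective.comp W.subtype_injective)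
      (fun x => S.A.K_le (S.A.mem_K.2 ⟨x.1.2, x.2.2.2⟩))
      ((f.comp W.subtype).codRestrict _ fun x => x.2.1) fun t => ?_
    obtain ⟨x, hx, hxt⟩ := hle t.2
    exact ⟨⟨x, by show f x ∈ alternatingGroup (Fin d); rw [hxt]; exact t.2, hx⟩, Subtype.ext hxt⟩
  intro hbot
  apply hC
  refine eq_bot_iff.2 fun x hx => ?_
  set c := S.e.symm ⟨x, hx.1⟩
  have hc : c ∈ C0 := by
    show ((S.e (S.e.symm ⟨x, hx.1⟩) : J) : G) ∈ C
    rw [S.e.apply_symm_apply]
    exact hx
  have hcK : (c : G) ∈ H ⊓ centralizer (S.A.K : Set G) := by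
    refine ⟨c.2, mem_centralizer_iff.2 fun k hk => ?_⟩
    obtain ⟨hkH, hk1⟩ := S.A.mem_K.1 hk
    exact congrArg Subtype.val (commute_of_normal_of_disjoint C0 S.A.π.ker inferInstance
      inferInstance (disjoint_iff.2 hdis) c ⟨k, hkH⟩ hc hk1).eq.symm
  rw [hbot, Subgroup.mem_bot] at hcK
  have h1 : (⟨x, hx.1⟩ : J) = 1 := by
    have h := congrArg S.e (Subtype.ext hcK : c = 1)
    rwa [S.e.apply_symm_apply, map_one] at h
  exact Subgroup.mem_bot.2 (congrArg Subtype.val h1)

theorem centralizer_ne_bot : H ⊓ centralizer (S.A.K : Set G) ≠ ⊥ := by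
  rcases S.exists_centralizing with h | h
  · exact (S.centralizers_ne_bot h).1
  · exact (S.swap.centralizers_ne_bot (by
      show S.B.K ⊓ centralizer ((S.B.K ⊓ S.A.K : Subgroup G) : Set G) ≠ ⊥
      rwa [inf_comm S.B.K S.A.K])).2

theorem alt_le_centralizer_image :
    alternatingGroup (Fin d) ≤ ((H ⊓ centralizer (S.A.K : Set G)).subgroupOf H).map S.A.π := by
  have hn := le_normalizer_centralizerIn S.A.le_normalizer_K
  refine S.A.alt_le_image (by have := S.six; omega) S.bigA inf_le_left hn fun h =>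
    S.centralizer_ne_bot ?_
  exact eq_bot_of_comm S.cores (h.trans S.A.K_le) (inf_le_left.trans hn)
    fun x hx y hy => mem_centralizer_iff.1 hy.2 x (h hx)

theorem le_normalizer_M : H ≤ normalizer ((S.A.K ⊓ S.B.K : Subgroup G) : Set G) := by
  intro h hh
  obtain ⟨x, hx, hn⟩ := S.A.exists_mul (by have := S.six; omega) S.alt_le_centralizer_image ⟨h, hh⟩
  have h1 : h * x⁻¹ ∈ normalizer ((S.A.K ⊓ S.B.K : Subgroup G) : Set G) := centralizer_le_normalizer _
    (mem_centralizer_iff.2 fun y hy => mem_centralizer_iff.1 hn.2 y hy.1)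
  simpa using mul_mem h1 (S.D_le_normalizer_M hx)

theorem inf_eq_bot : S.A.K ⊓ S.B.K = ⊥ :=
  S.common _ (inf_le_left.trans S.A.K_le) S.le_normalizer_M (by
    rw [inf_comm]
    exact S.swap.le_normalizer_M)

theorem L_le_centralizer : S.B.K ≤ centralizer (S.A.K : Set G) := by
  rw [← commutator_eq_bot_iff_le_centralizer, eq_bot_iff]
  refine (Components.commutator_le_inf_of_normalizer (S.A.K_le.trans S.D_le_normalizer_L)
    (S.L_le.trans S.D_le_normalizer_K)).trans ?_
  rw [inf_comm]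
  exact S.inf_eq_bot.le

/-- The action of `D` on the other neighbours of `b`. -/
noncomputable def ρB : ↥(H ⊓ J) →* Perm (Fin (d - 1)) :=
  S.B.ρ.comp (inclusion (inf_comm H J).le)

theorem ρB_eq_one_iff {x : ↥(H ⊓ J)} : S.ρB x = 1 ↔ (x : G) ∈ S.B.K := S.B.ρ_eq_one_iff

theorem ρB_range : S.ρB.range = S.B.ρ.range := by
  rw [ρB, MonoidHom.range_comp, MonoidHom.range_eq_top.2 fun x => ⟨⟨x, x.2.2, x.2.1⟩, rfl⟩,
    ← MonoidHom.range_eq_map]

theorem alt_le_ρB_K :
    alternatingGroup (Fin (d - 1)) ≤ (S.A.K.subgroupOf (H ⊓ J)).map S.ρB := by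
  have : (S.A.K.subgroupOf (H ⊓ J)).Normal :=
    (normal_subgroupOf_iff_le_normalizer S.A.K_le).2 S.D_le_normalizer_K
  refine alt_le_map (by have := S.six; omega) _ (S.ρB_range ▸ S.B.alt_le_ρ S.bigB) _ fun h => S.neA ?_
  rw [← S.inf_eq_bot]
  exact (inf_eq_left.2 fun x hx => S.ρB_eq_one_iff.1 (h (show (⟨x, S.A.K_le hx⟩ : ↥(H ⊓ J)) ∈
    S.A.K.subgroupOf (H ⊓ J) from hx))).symm

theorem centralizer_inf_D {x : G} (hC : x ∈ centralizer (S.A.K : Set G)) (hD : x ∈ H ⊓ J) :
    x ∈ S.B.K := by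
  refine (S.ρB_eq_one_iff (x := ⟨x, hD⟩)).1 (eq_one_of_commute_alt (by have := S.six; omega) fun k hk => ?_)
  obtain ⟨y, hy, rfl⟩ := S.alt_le_ρB_K hk
  rw [← map_mul, ← map_mul, show y * ⟨x, hD⟩ = ⟨x, hD⟩ * y from
    Subtype.ext (mem_centralizer_iff.1 hC y hy)]

/-- The second factor of the embedding of `H`. -/
theorem exists_tau : ∃ τ : H →* Perm (Fin (d - 1)),
    (∀ h : H, τ h = 1 ↔ (h : G) ∈ centralizer (S.A.K : Set G)) ∧
      ∀ (x : ↥(H ⊓ J)), τ ⟨x, x.2.1⟩ = S.ρB x := by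
  set C := H ⊓ centralizer (S.A.K : Set G)
  have hdec : ∀ h : H, ∃ x : ↥(H ⊓ J), (h : G) * (x : G)⁻¹ ∈ C := fun h => by
    obtain ⟨x, hx, hn⟩ := S.A.exists_mul (by have := S.six; omega) S.alt_le_centralizer_image h
    exact ⟨⟨x, hx⟩, hn⟩
  have hwd : ∀ (g : G) (x y : ↥(H ⊓ J)), g * (x : G)⁻¹ ∈ C → g * (y : G)⁻¹ ∈ C →
      S.ρB x = S.ρB y := fun g x y hx hy => by
    have h : (x : G) * (y : G)⁻¹ ∈ C := by
      simpa [mul_assoc] using C.mul_mem (C.inv_mem hx) hy
    have h' := S.ρB_eq_one_iff (x := x * y⁻¹) |>.2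
      (S.centralizer_inf_D (show ((x * y⁻¹ : ↥(H ⊓ J)) : G) ∈ centralizer (S.A.K : Set G) from h.2)
        (x * y⁻¹).2)
    rwa [map_mul, map_inv, mul_inv_eq_one] at h'
  choose r hr using hdec
  have hn := le_normalizer_centralizerIn S.A.le_normalizer_K
  let τ : H →* Perm (Fin (d - 1)) := MonoidHom.mk' (fun h => S.ρB (r h)) fun a b => by
    rw [← map_mul]
    refine hwd _ _ _ (hr (a * b)) ?_
    have h := C.mul_mem (hr a)
      ((mem_normalizer_iff.1 (hn (r a).2.1) _).1 (hr b))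
    simpa [mul_assoc] using h
  have hext : ∀ x : ↥(H ⊓ J), τ ⟨x, x.2.1⟩ = S.ρB x := fun x =>
    hwd _ _ _ (hr ⟨x, x.2.1⟩) (by simpa using C.one_mem)
  refine ⟨τ, fun h => ⟨fun e => ?_, fun hh => ?_⟩, hext⟩
  · have h1 := S.L_le_centralizer (S.ρB_eq_one_iff.1 e)
    simpa using (centralizer _).mul_mem (hr h).2 h1
  · show S.ρB (r h) = 1
    rw [← map_one S.ρB]
    exact hwd _ _ _ (hr h) (by
      simp only [OneMemClass.coe_one, inv_one, mul_one]
      exact ⟨h.2, hh⟩)

/-- The embedding of `H` in a product of two symmetric groups. -/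
theorem exists_embedding : ∃ τ : H →* Perm (Fin (d - 1)),
    Function.Injective (S.A.π.prod τ) ∧
    (∀ x ∈ alternatingGroup (Fin d), (x, 1) ∈ (S.A.π.prod τ).range) ∧
    (∀ y ∈ alternatingGroup (Fin (d - 1)), (1, y) ∈ (S.A.π.prod τ).range) ∧
    τ.range = S.B.ρ.range ∧
    (∀ h : H, τ h = 1 ↔ (h : G) ∈ centralizer (S.A.K : Set G)) := by
  obtain ⟨τ, hker, hext⟩ := S.exists_tau
  refine ⟨τ, ?_, fun x hx => ?_, fun y hy => ?_, ?_, hker⟩
  · refine (injective_iff_map_eq_one _).2 fun h hh => Subtype.ext ?_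
    have h1 : (h : G) ∈ S.A.K := S.A.mem_K.2 ⟨h.2, congrArg Prod.fst hh⟩
    have h2 := S.centralizer_inf_D ((hker h).1 (congrArg Prod.snd hh)) (S.A.K_le h1)
    have h3 : (h : G) ∈ S.A.K ⊓ S.B.K := ⟨h1, h2⟩
    rwa [S.inf_eq_bot, Subgroup.mem_bot] at h3
  · obtain ⟨h, hh, rfl⟩ := S.alt_le_centralizer_image hx
    exact ⟨h, Prod.ext rfl ((hker h).2 hh.2)⟩
  · obtain ⟨x, hx, rfl⟩ := S.alt_le_ρB_K hy
    obtain ⟨hxH, h1⟩ := S.A.mem_K.1 hx
    exact ⟨⟨x, hxH⟩, Prod.ext h1 (hext x)⟩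
  · rw [← S.ρB_range]
    refine le_antisymm ?_ ?_
    · rintro _ ⟨h, rfl⟩
      obtain ⟨x, hx, hn⟩ := S.A.exists_mul (by have := S.six; omega) S.alt_le_centralizer_image h
      refine ⟨⟨x, hx⟩, ?_⟩
      have h1 : τ (h * (⟨x, hx.1⟩ : H)⁻¹) = 1 := (hker _).2 hn.2
      rw [map_mul, map_inv, mul_inv_eq_one] at h1
      rw [h1]
      exact (hext ⟨x, hx⟩).symm
    · rintro _ ⟨x, rfl⟩
      exact ⟨⟨x, x.2.1⟩, hext x⟩

/-- If `H` induces the alternating group then so does `J`. -/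
theorem range_eq_alt (hA : S.A.π.range = alternatingGroup (Fin d)) :
    S.B.π.range = alternatingGroup (Fin d) := by
  refine (eq_alt_or_top S.bigB).resolve_right fun hB => ?_
  obtain ⟨τ, -, hm, -, -, hker⟩ := S.exists_embedding
  have h6 := S.six
  set f : H →* Perm (Fin d) := S.B.π.comp S.e.toMonoidHom
  have hf : f.range = ⊤ := by
    rw [MonoidHom.range_comp, MonoidHom.range_eq_top.2 S.e.surjective, ← MonoidHom.range_eq_map, hB]
  have hidx : f.ker.index = d.factorial := by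
    rw [index_ker, hf, card_top, Nat.card_perm, Nat.card_fin]
  have halt : alternatingGroup (Fin d) ≤ τ.ker.map f := by
    refine alt_le_map (by omega) f (hf ▸ le_top) _ fun h => ?_
    have h1 := index_dvd_of_le h
    rw [hidx, index_ker] at h1
    have h2 := (Nat.le_of_dvd Nat.card_pos h1).trans (card_le_card_group τ.range)
    rw [Nat.card_perm, Nat.card_fin, ← two_mul_card_alt (n := d) (by omega)] at h2
    have := factorial_pred_lt_card_alt (n := d) (by omega)
    omega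
  have hle : S.A.π.ker ≤ f.ker := fun k hk => by
    refine eq_one_of_commute_alt (by omega) fun t ht => ?_
    obtain ⟨c, hc, rfl⟩ := halt ht
    rw [← map_mul, ← map_mul, show c * k = k * c from Subtype.ext
      (mem_centralizer_iff.1 ((hker c).1 hc) k (S.A.mem_K.2 ⟨k.2, hk⟩)).symm]
  have h1 := index_dvd_of_le hle
  rw [hidx, index_ker, hA, ← two_mul_card_alt (n := d) (by omega)] at h1
  have := Nat.le_of_dvd Nat.card_pos h1
  have : 0 < Nat.card (alternatingGroup (Fin d)) := Nat.card_pos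
  omega

/-- The classification. -/
theorem classification :
    (S.A.π.range = alternatingGroup (Fin d) ∧
      Nonempty (H ≃* alternatingGroup (Fin d) × alternatingGroup (Fin (d - 1)))) ∨
    (S.A.π.range = ⊤ ∧
      (Nonempty (H ≃* Perm (Fin d) × Perm (Fin (d - 1))) ∨
       Nonempty (H ≃* ((Equiv.Perm.sign.comp (MonoidHom.fst (Perm (Fin d)) (Perm (Fin (d - 1))))) *
         (Equiv.Perm.sign.comp (MonoidHom.snd (Perm (Fin d)) (Perm (Fin (d - 1)))))).ker))) := by
  obtain ⟨τ, hinj, hm, hn, hτ, -⟩ := S.exists_embedding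
  have h6 := S.six
  have E := MonoidHom.ofInjective hinj
  rcases eq_alt_or_top S.bigA with hA | hA
  · refine Or.inl ⟨hA, ⟨E.trans ((MulEquiv.subgroupCongr (eq_prod_alt hm hn ?_)).trans
      (Subgroup.prodEquiv _ _))⟩⟩
    rintro _ ⟨h, rfl⟩
    exact ⟨Equiv.Perm.mem_alternatingGroup.1 (hA ▸ ⟨h, rfl⟩ : S.A.π h ∈ alternatingGroup (Fin d)),
      Equiv.Perm.mem_alternatingGroup.1
        (S.B.ρ_range_le (S.range_eq_alt hA) (hτ ▸ ⟨h, rfl⟩ : τ h ∈ S.B.ρ.range))⟩
  · refine Or.inr ⟨hA, ?_⟩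
    have hB : S.B.π.range = ⊤ := (eq_alt_or_top S.bigB).resolve_left fun h => by
      have h' : S.A.π.range = alternatingGroup (Fin d) := S.swap.range_eq_alt h
      rw [hA] at h'
      have : Nontrivial (Fin d) := Fin.nontrivial_iff_two_le.2 (by omega)
      have := alternatingGroup.index_eq_two (α := Fin d)
      rw [← h', index_top] at this
      omega
    have hsign : ∀ (k : ℕ), 2 ≤ k → ∃ q : Perm (Fin k), Equiv.Perm.sign q = -1 := fun k hk =>
      haveI : Nontrivial (Fin k) := Fin.nontrivial_iff_two_le.2 hk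
      Equiv.Perm.sign_surjective (Fin k) (-1)
    have h1 : ∃ w ∈ (S.A.π.prod τ).range, Equiv.Perm.sign w.1 = -1 := by
      obtain ⟨q, hq⟩ := hsign d (by omega)
      obtain ⟨h, rfl⟩ := (hA ▸ mem_top q : q ∈ S.A.π.range)
      exact ⟨_, ⟨h, rfl⟩, hq⟩
    have h2 : ∃ w ∈ (S.A.π.prod τ).range, Equiv.Perm.sign w.2 = -1 := by
      obtain ⟨q, hq⟩ := hsign (d - 1) (by omega)
      obtain ⟨h, rfl⟩ := (hτ.trans (S.B.ρ_range_eq_top hB) ▸ mem_top q : q ∈ τ.range)
      exact ⟨_, ⟨h, rfl⟩, hq⟩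
    rcases eq_top_or_eq_signKer hm hn h1 h2 with h | h
    · exact Or.inl ⟨E.trans ((MulEquiv.subgroupCongr h).trans Subgroup.topEquiv)⟩
    · exact Or.inr ⟨E.trans (MulEquiv.subgroupCongr h)⟩

end Setup

end Cfsg.Agent.TW
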