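import Cfsg.Agent.Lib.TW.AltPair
import Cfsg.Agent.Lib.TW.Bound
import Cfsg.Agent.S3693

/-!
Primitive groups with a suborbit on which the stabiliser induces a symmetric or alternating group.
-/

namespace Cfsg.Agent.TW

open MulAction Equiv

variable {G Ω : Type*} [Group G] [MulAction G Ω] [Finite Ω]

/-- The action of `G_a` on the orbit of `b`, numbered. -/
noncomputable def orbitAct (a b : Ω) {d : ℕ} (hd : Nat.card (orbit (stabilizer G a) b) = d) :
    Act (stabilizer G a) (stabilizer G b) d where
  π := (Finite.equivFinOfCardEq hd).permCongrHom.toMonoidHom.comp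
    (toPermHom (stabilizer G a) (orbit (stabilizer G a) b))
  pt := Finite.equivFinOfCardEq hd ⟨b, mem_orbit_self b⟩
  stab h := by
    show (h : G) • b = b ↔ _
    simp only [MonoidHom.comp_apply, MulEquiv.coe_toMonoidHom, Equiv.permCongrHom_coe,
      Equiv.permCongr_apply, Equiv.symm_apply_apply, EmbeddingLike.apply_eq_iff_eq]
    exact ⟨fun e => Subtype.ext e, fun e => congrArg Subtype.val e⟩

theorem mem_orbitAct_K {a b : Ω} {d : ℕ} {hd : Nat.card (orbit (stabilizer G a) b) = d} {x : G} :
    x ∈ (orbitAct a b hd).K ↔ ∃ hx : x ∈ stabilizer G a,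
      toPermHom (stabilizer G a) (orbit (stabilizer G a) b) ⟨x, hx⟩ = 1 :=
  (orbitAct a b hd).mem_K.trans (exists_congr fun _ => map_eq_one_iff
    (Finite.equivFinOfCardEq hd).permCongrHom (MulEquiv.injective _))

theorem orbitAct_range {a b : Ω} {d : ℕ} (hd : Nat.card (orbit (stabilizer G a) b) = d) :
    (orbitAct a b hd).π.range = (toPermHom (stabilizer G a) (orbit (stabilizer G a) b)).range.map
      (Finite.equivFinOfCardEq hd).permCongrHom.toMonoidHom :=
  MonoidHom.range_comp (Finite.equivFinOfCardEq hd).permCongrHom.toMonoidHom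
    (toPermHom (stabilizer G a) (orbit (stabilizer G a) b))

theorem index_orbitAct_range {a b : Ω} {d : ℕ} (hd : Nat.card (orbit (stabilizer G a) b) = d) :
    (orbitAct a b hd).π.range.index =
      (toPermHom (stabilizer G a) (orbit (stabilizer G a) b)).range.index := by
  rw [orbitAct_range, Subgroup.index_map_of_bijective]
  exact (Finite.equivFinOfCardEq hd).permCongrHom.bijective

theorem orbitAct_range_eq_top {a b : Ω} {d : ℕ} (hd : Nat.card (orbit (stabilizer G a) b) = d)
    (h : (orbitAct a b hd).π.range = ⊤) :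
    (toPermHom (stabilizer G a) (orbit (stabilizer G a) b)).range = ⊤ := by
  rw [← Subgroup.index_eq_one, ← index_orbitAct_range hd, h, Subgroup.index_top]

variable [Finite G]

/-- Where the kernel is trivial the two-point stabiliser has no section `A_d`. -/
theorem noAltSection_of_kern (hprim : IsPreprimitive G Ω) (a b : Ω) {d : ℕ}
    (hd : Nat.card (orbit (stabilizer G a) b) = d) (h5 : 5 ≤ d) (hk : kern (G := G) a b a = ⊥) :
    NoAltSection (stabilizer G a ⊓ stabilizer G b) d := by
  classical
  intro W hW g hg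
  have := isSimpleGroup_alt h5
  have hlt := factorial_pred_lt_card_alt (n := d) (by omega)
  set A := orbitAct a b hd
  set h0 : W →* Perm (Fin (d - 1)) := A.ρ.comp (Subgroup.inclusion hW)
  have hg1 := restrict_surjective g hg h0 ((Subgroup.card_le_card_group _).trans_lt (by
    rwa [Nat.card_perm, Nat.card_fin]))
  have hfix : ∀ x : h0.ker, ∀ w, Arc (G := G) a b a w → ((x : W) : G) • w = w := fun x => by
    obtain ⟨hx, h⟩ := mem_orbitAct_K.1 (A.ρ_eq_one_iff.1 x.2)
    exact toPermHom_eq_one_iff.1 h
  let S := {w // Arc (G := G) a b a w}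
  let T : S → Type _ := fun w => {u // Arc (G := G) a b u (w : Ω) ∧ u ≠ a}
  have hstab : ∀ (x : h0.ker) (w : S) (u : Ω), Arc (G := G) a b u (w : Ω) → u ≠ a →
      Arc (G := G) a b (((x : W) : G) • u) (w : Ω) ∧ ((x : W) : G) • u ≠ a := by
    intro x w u hu hua
    refine ⟨?_, fun e => hua ?_⟩
    · have := arc_smul ((x : W) : G) hu
      rwa [hfix x w w.2] at this
    · have hxa : ((x : W) : G) • a = a := (hW (x : W).2).1
      exact smul_left_cancel ((x : W) : G) (e.trans hxa.symm)
  let F : ∀ w : S, h0.ker →* Perm (T w) := fun w =>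
    { toFun := fun x =>
        { toFun := fun u => ⟨((x : W) : G) • (u : Ω), hstab x w u u.2.1 u.2.2⟩
          invFun := fun u => ⟨(((x⁻¹ : h0.ker) : W) : G) • (u : Ω), hstab _ w u u.2.1 u.2.2⟩
          left_inv := fun u => Subtype.ext (by simp)
          right_inv := fun u => Subtype.ext (by simp) }
      map_one' := Equiv.ext fun u => Subtype.ext (by simp)
      map_mul' := fun x y => Equiv.ext fun u => Subtype.ext (by simp [mul_smul]) }
  have hT : ∀ w : S, Nat.card (T w) = d - 1 := by
    intro w
    have hpred : Nat.card {u // Arc (G := G) a b u (w : Ω)} = d := by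
      rw [natCard_pred w.2, natCard_orbit_swap hprim a b, hd]
    have hsum := Nat.card_congr (Equiv.sumCompl
      (fun u : {u // Arc (G := G) a b u (w : Ω)} => (u : Ω) = a))
    rw [Nat.card_sum, hpred] at hsum
    have h1 : Nat.card {u : {u // Arc (G := G) a b u (w : Ω)} // (u : Ω) = a} = 1 := by
      rw [Nat.card_eq_one_iff_unique]
      exact ⟨⟨fun u v => Subtype.ext (Subtype.ext (u.2.trans v.2.symm))⟩, ⟨⟨⟨a, w.2⟩, rfl⟩⟩⟩
    have h2 : Nat.card (T w) =
        Nat.card {u : {u // Arc (G := G) a b u (w : Ω)} // ¬ (u : Ω) = a} :=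
      Nat.card_congr (Equiv.subtypeSubtypeEquivSubtypeInter _ _).symm
    omega
  refine not_surjective_of_family F (fun x hx => ?_) (fun w => by rwa [Nat.card_perm, hT w]) _ hg1
  have h : ((x : W) : G) ∈ kern (G := G) a b a := mem_kern.2 ⟨(hW (x : W).2).1, fun w hw =>
    ⟨hfix x w hw, fun u hu => by
      by_cases hua : u = a
      · rw [hua]; exact (hW (x : W).2).1
      · exact congrArg Subtype.val (Equiv.ext_iff.1 (hx ⟨w, hw⟩) ⟨u, hu, hua⟩)⟩⟩
  rw [hk, Subgroup.mem_bot] at h
  exact Subtype.ext (Subtype.ext h)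

variable [FaithfulSMul G Ω]

/-- The structure of a stabiliser acting unfaithfully as `A_d` or `S_d` on a suborbit. -/
theorem setup_of_suborbit (hprim : IsPreprimitive G Ω) (a b : Ω) {d : ℕ}
    (hd : Nat.card (orbit (stabilizer G a) b) = d) (h6 : 6 ≤ d)
    (halt : (toPermHom (stabilizer G a) (orbit (stabilizer G a) b)).range.index ≤ 2)
    (hunf : ¬ Function.Injective (toPermHom (stabilizer G a) (orbit (stabilizer G a) b))) :
    ∃ S : Setup (stabilizer G a) (stabilizer G b) d, S.A = orbitAct a b hd := by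
  have := nontrivial_points a b hd (by omega)
  have hd' : Nat.card (orbit (stabilizer G b) a) = d := by rw [natCard_orbit_swap hprim a b, hd]
  set A := orbitAct a b hd
  set B := orbitAct b a hd'
  have hA : A.π.range.index ≤ 2 := by rwa [index_orbitAct_range]
  have hK : A.K ≠ ⊥ := fun h => hunf ((injective_iff_map_eq_one _).2 fun x hx => by
    have : (x : G) ∈ A.K := mem_orbitAct_K.2 ⟨x.2, hx⟩
    rw [h, Subgroup.mem_bot] at this
    exact Subtype.ext this)
  have hF : Cfsg.fittingSubgroup ↥(((stabilizer G b).subgroupOf (stabilizer G a)).map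
      (toPermHom (stabilizer G a) (orbit (stabilizer G a) b))) = ⊥ := by
    set I := ((stabilizer G b).subgroupOf (stabilizer G a)).map
      (toPermHom (stabilizer G a) (orbit (stabilizer G a) b))
    set P := (Finite.equivFinOfCardEq hd).permCongrHom
    have hmem : ∀ y : I, P y ∈ stabilizer (Perm (Fin d)) A.pt := by
      rintro ⟨_, x, hx, rfl⟩
      exact (A.stab x).1 hx
    refine fitting_eq_bot_of_alt (n := d - 1) (by omega)
      ((restrPt A.pt).comp ((P.toMonoidHom.comp I.subtype).codRestrict _ hmem))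
      ((restrPt_injective A.pt).comp fun x y h => Subtype.ext (P.injective (congrArg Subtype.val h)))
      ((A.alt_le_ρ hA).trans ?_)
    rintro _ ⟨x, rfl⟩
    exact ⟨⟨_, ⟨x, x.2.1⟩, x.2.2, rfl⟩, rfl⟩
  have hcores : ∀ p : ℕ, p.Prime → opCore p (stabilizer G a ⊓ stabilizer G b) = ⊥ := fun p hp =>
    haveI : Fact p.Prime := ⟨hp⟩
    S3693.opCore_inter_eq_bot hprim a b d hd (by omega) hF
  have hne := stabilizer_ne a b hd (by omega)
  have hno : NoAltSection (stabilizer G a ⊓ stabilizer G b) d := by
    by_cases hp : ∃ p : ℕ, p.Prime ∧ Cfsg.pCore p (stabilizer G a) ≠ ⊥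
    · obtain ⟨p, hp, hne'⟩ := hp
      have : Fact p.Prime := ⟨hp⟩
      refine noAltSection_of_kern hprim a b hd (by omega) (le_bot_iff.1 ?_)
      rw [← hcores p hp]
      exact le_opCore (.of_normalizes (le_inf (kern_le a) (kern_le_head arc_self))
        (inf_le_left.trans (le_normalizer_kern a)))
        (isPGroup_kern_of_pCore_ne_bot hprim a b hd (by omega) hne')
    · push Not at hp
      have hE : layerIn (stabilizer G a) ≠ ⊥ := fun h => hK (eq_bot_iff.2 fun x hx => by
        rw [Subgroup.mem_bot]
        exact congrArg Subtype.val (eq_bot_of_no_fstar (layer_eq_bot_of_layerIn h)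
          (fittingSubgroup_eq_bot_of_pCore hp) ⟨x, A.K_le_left hx⟩))
      rcases kern_eq_bot_or hprim hne hE with h | h
      · exact noAltSection_of_kern hprim a b hd (by omega) h
      · rw [inf_comm]
        exact noAltSection_of_kern hprim b a hd' (by omega) h
  have hcard : Nat.card (stabilizer G a) = Nat.card (stabilizer G b) := card_stabilizer_eq hprim a b
  have := hprim.toIsPretransitive
  obtain ⟨g, hg⟩ := MulAction.exists_smul_eq G a b
  have e : stabilizer G a ≃* stabilizer G b :=
    ((stabilizer G a).equivMapOfInjective (MulAut.conj g).toMonoidHom (MulAut.conj g).injective).trans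
      (MulEquiv.subgroupCongr (by rw [stabilizer_map, hg]))
  refine ⟨⟨h6, A, B, hA, big_of_noAltSection h6 A B hA e hno, e, fun X hX h1 h2 => ?_, hcores, hno,
    hK, K_ne_bot h6 A B hA hK e hcores⟩, rfl⟩
  by_contra hX0
  exact hne (Subgroup.eq_of_le_of_card_ge (h2.trans (normalizer_le_stabilizer hprim
    (hX.trans inf_le_left) h1 hX0)) hcard.le).symm

end Cfsg.Agent.TW
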