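import Cfsg.Agent.Lib.TW.Local
import Mathlib.GroupTheory.GroupAction.Primitive
import Mathlib.GroupTheory.GroupAction.Quotient
import Mathlib.GroupTheory.Perm.Basic
import Mathlib.GroupTheory.Index
import Mathlib.Data.Fintype.Perm

/-!
The Thompson–Wielandt theorem for a suborbit of a primitive group, in Wielandt's form: the
intersection `kern a b a` of the kernels is a `p`-group, and bounds the point stabiliser.
-/

namespace Cfsg.Agent.TW

open MulAction

variable {G Ω : Type*} [Group G] [MulAction G Ω]

/-- The arcs of the orbital digraph of `(a, b)`. -/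
def Arc (a b v w : Ω) : Prop := ∃ g : G, g • a = v ∧ g • b = w

/-- Wielandt's kernel at `v`: what fixes `v`, its successors, and all their predecessors. -/
def kern (a b v : Ω) : Subgroup G :=
  stabilizer G v ⊓ ⨅ w : {w // Arc (G := G) a b v w},
    (stabilizer G (w : Ω) ⊓ ⨅ u : {u // Arc (G := G) a b u (w : Ω)}, stabilizer G (u : Ω))

/-- The kernel at `v` on the predecessors of `v`. -/
def predKern (a b v : Ω) : Subgroup G :=
  stabilizer G v ⊓ ⨅ u : {u // Arc (G := G) a b u v}, stabilizer G (u : Ω)

variable {a b : Ω}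

theorem arc_self : Arc (G := G) a b a b := ⟨1, one_smul _ _, one_smul _ _⟩

theorem arc_swap {v w : Ω} : Arc (G := G) b a w v ↔ Arc (G := G) a b v w :=
  ⟨fun ⟨g, h₁, h₂⟩ => ⟨g, h₂, h₁⟩, fun ⟨g, h₁, h₂⟩ => ⟨g, h₂, h₁⟩⟩

theorem arc_smul {v w : Ω} (g : G) (h : Arc (G := G) a b v w) : Arc (G := G) a b (g • v) (g • w) := by
  obtain ⟨k, rfl, rfl⟩ := h
  exact ⟨g * k, mul_smul _ _ _, mul_smul _ _ _⟩

theorem arc_smul_iff {v w : Ω} (g : G) :
    Arc (G := G) a b (g • v) (g • w) ↔ Arc (G := G) a b v w :=
  ⟨fun h => by simpa using arc_smul g⁻¹ h, arc_smul g⟩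

theorem mem_kern {v : Ω} {x : G} : x ∈ kern (G := G) a b v ↔
    x • v = v ∧ ∀ w, Arc (G := G) a b v w → x • w = w ∧ ∀ u, Arc (G := G) a b u w → x • u = u := by
  simp [kern, Subgroup.mem_iInf]

theorem mem_predKern {v : Ω} {x : G} : x ∈ predKern (G := G) a b v ↔
    x • v = v ∧ ∀ u, Arc (G := G) a b u v → x • u = u := by
  simp [predKern, Subgroup.mem_iInf]

theorem stabilizer_map (g : G) (v : Ω) :
    (stabilizer G v).map (MulAut.conj g).toMonoidHom = stabilizer G (g • v) :=
  (stabilizer_smul_eq_stabilizer_map_conj g v).symm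

theorem mem_kern_smul {v : Ω} {x : G} (g : G) :
    g * x * g⁻¹ ∈ kern (G := G) a b (g • v) ↔ x ∈ kern (G := G) a b v := by
  simp only [mem_kern, mul_smul, inv_smul_smul, smul_left_cancel_iff]
  refine and_congr_right fun _ => ⟨fun h w hw => ?_, fun h w hw => ?_⟩
  · obtain ⟨h1, h2⟩ := h (g • w) (arc_smul g hw)
    simp only [inv_smul_smul, smul_left_cancel_iff] at h1
    refine ⟨h1, fun u hu => ?_⟩
    simpa using h2 (g • u) (arc_smul g hu)
  · have hw' : Arc (G := G) a b v (g⁻¹ • w) := by simpa using arc_smul g⁻¹ hw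
    obtain ⟨h1, h2⟩ := h _ hw'
    refine ⟨by rw [h1, smul_inv_smul], fun u hu => ?_⟩
    rw [h2 (g⁻¹ • u) (arc_smul g⁻¹ hu), smul_inv_smul]

theorem kern_map (g : G) (v : Ω) :
    (kern (G := G) a b v).map (MulAut.conj g).toMonoidHom = kern (G := G) a b (g • v) := by
  ext x
  rw [Subgroup.mem_map]
  constructor
  · rintro ⟨y, hy, rfl⟩
    exact (mem_kern_smul g).2 hy
  · intro hx
    refine ⟨g⁻¹ * x * g, (mem_kern_smul g).1 (by simpa [mul_assoc] using hx), ?_⟩
    simp [mul_assoc]

theorem kern_le (v : Ω) : kern (G := G) a b v ≤ stabilizer G v := inf_le_left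

theorem stab_mem_iff {v : Ω} {g : G} (hg : g ∈ stabilizer G v) (x : G) :
    x ∈ kern (G := G) a b v ↔ g * x * g⁻¹ ∈ kern (G := G) a b v := by
  have := mem_kern_smul (a := a) (b := b) (v := v) (x := x) g
  rw [mem_stabilizer_iff.1 hg] at this
  exact this.symm

theorem le_normalizer_kern (v : Ω) :
    stabilizer G v ≤ Subgroup.normalizer (kern (G := G) a b v : Set G) :=
  fun _ hg => Subgroup.mem_normalizer_iff.2 (stab_mem_iff hg)

theorem predKern_le (v : Ω) : predKern (G := G) a b v ≤ stabilizer G v := inf_le_left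

theorem predKern_le_of_arc {u v : Ω} (h : Arc (G := G) a b u v) :
    predKern (G := G) a b v ≤ stabilizer G u :=
  fun _ hx => (mem_predKern.1 hx).2 u h

theorem le_normalizer_predKern (v : Ω) :
    stabilizer G v ≤ Subgroup.normalizer (predKern (G := G) a b v : Set G) := by
  have key : ∀ g ∈ stabilizer G v, ∀ x ∈ predKern (G := G) a b v,
      g * x * g⁻¹ ∈ predKern (G := G) a b v := by
    intro g hg x hx
    rw [mem_predKern] at hx ⊢
    have hg' : g⁻¹ • v = v := (inv_mem hg : g⁻¹ ∈ stabilizer G v)
    refine ⟨by rw [mul_smul, mul_smul, hg', hx.1, hg], fun u hu => ?_⟩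
    have := arc_smul g⁻¹ hu
    rw [hg'] at this
    rw [mul_smul, mul_smul, hx.2 _ this, smul_inv_smul]
  intro g hg
  rw [Subgroup.mem_normalizer_iff]
  exact fun x => ⟨key g hg x, fun h => by simpa [mul_assoc] using key g⁻¹ (inv_mem hg) _ h⟩

theorem kern_le_predKern {v w : Ω} (h : Arc (G := G) a b v w) :
    kern (G := G) a b v ≤ predKern (G := G) a b w :=
  fun _ hx => mem_predKern.2 ((mem_kern.1 hx).2 w h)

theorem kern_le_head {v w : Ω} (h : Arc (G := G) a b v w) : kern (G := G) a b v ≤ stabilizer G w :=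
  (kern_le_predKern h).trans (predKern_le w)

theorem subnormal_predKern (v : Ω) : SubnormalIn (predKern (G := G) a b v) (stabilizer G v) :=
  SubnormalIn.of_normalizes (predKern_le v) (le_normalizer_predKern v)

theorem subnormal_kern_head {v w : Ω} (h : Arc (G := G) a b v w) :
    SubnormalIn (kern (G := G) a b v) (stabilizer G w) :=
  (SubnormalIn.of_normalizes (kern_le_predKern h)
    ((predKern_le_of_arc h).trans (le_normalizer_kern v))).trans (subnormal_predKern w)

theorem subnormal_kern_inter {u v w : Ω} (hu : Arc (G := G) a b u w) (hv : Arc (G := G) a b v w) :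
    SubnormalIn (kern (G := G) a b v) (stabilizer G u ⊓ stabilizer G w) :=
  (subnormal_kern_head hv).restrict
    (le_inf ((kern_le_predKern hv).trans (predKern_le_of_arc hu)) (kern_le_head hv)) inf_le_right

/-! ### Primitive groups -/

variable [Finite G] [FaithfulSMul G Ω] [Nontrivial Ω] (hprim : IsPreprimitive G Ω)

include hprim

theorem eq_bot_of_normal_le_stabilizer {N : Subgroup G} [hN : N.Normal] {v : Ω}
    (h : N ≤ stabilizer G v) : N = ⊥ := by
  rw [eq_bot_iff]
  intro x hx
  rw [Subgroup.mem_bot]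
  refine FaithfulSMul.eq_of_smul_eq_smul (α := Ω) fun w => ?_
  have := hprim.toIsPretransitive
  obtain ⟨g, rfl⟩ := MulAction.exists_smul_eq G v w
  have h2 : g⁻¹ * x * g ∈ stabilizer G v := h (by simpa using hN.conj_mem x hx g⁻¹)
  rw [mem_stabilizer_iff, mul_smul, mul_smul, inv_smul_eq_iff] at h2
  rw [one_smul, h2]

theorem normalizer_le_stabilizer {N : Subgroup G} {v : Ω} (hN : N ≤ stabilizer G v)
    (hn : stabilizer G v ≤ Subgroup.normalizer (N : Set G)) (hne : N ≠ ⊥) :
    Subgroup.normalizer (N : Set G) ≤ stabilizer G v := by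
  rcases eq_or_lt_of_le hn with h | h
  · exact h.ge
  · have htop := (hprim.isCoatom_stabilizer_of_isPreprimitive G v).2 _ h
    have : N.Normal := Subgroup.normalizer_eq_top_iff.1 htop
    exact absurd (eq_bot_of_normal_le_stabilizer hprim hN) hne

/-- Distinct adjacent points have distinct stabilisers. -/
theorem stabilizer_ne_of_arc (hab : stabilizer G a ≠ stabilizer G b) {v w : Ω}
    (h : Arc (G := G) a b v w) : stabilizer G v ≠ stabilizer G w := by
  obtain ⟨g, rfl, rfl⟩ := h
  intro e
  apply hab
  rw [← stabilizer_map g, ← stabilizer_map g] at e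
  exact Subgroup.map_injective (MulAut.conj g).injective e

theorem card_stabilizer_eq (v w : Ω) : Nat.card (stabilizer G v) = Nat.card (stabilizer G w) := by
  have := hprim.toIsPretransitive
  obtain ⟨g, rfl⟩ := MulAction.exists_smul_eq G v w
  rw [← stabilizer_map g, Subgroup.card_map_of_injective (MulAut.conj g).injective]

theorem card_opCore_eq (p : ℕ) (v w : Ω) :
    Nat.card (opCore p (stabilizer G v)) = Nat.card (opCore p (stabilizer G w)) := by
  have := hprim.toIsPretransitive
  obtain ⟨g, rfl⟩ := MulAction.exists_smul_eq G v w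
  rw [← stabilizer_map g, opCore_map_conj, Subgroup.card_map_of_injective (MulAut.conj g).injective]

theorem card_layerIn_eq (v w : Ω) :
    Nat.card (layerIn (stabilizer G v)) = Nat.card (layerIn (stabilizer G w)) := by
  have := hprim.toIsPretransitive
  obtain ⟨g, rfl⟩ := MulAction.exists_smul_eq G v w
  rw [← stabilizer_map g, layerIn_map_conj, Subgroup.card_map_of_injective (MulAut.conj g).injective]

theorem kern_eq_bot_iff (v w : Ω) : kern (G := G) a b v = ⊥ ↔ kern (G := G) a b w = ⊥ := by
  have := hprim.toIsPretransitive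
  obtain ⟨g, rfl⟩ := MulAction.exists_smul_eq G v w
  rw [← kern_map g, Subgroup.map_eq_bot_iff_of_injective _ (MulAut.conj g).injective]

theorem isPGroup_kern_iff (p : ℕ) (v w : Ω) :
    IsPGroup p (kern (G := G) a b v) ↔ IsPGroup p (kern (G := G) a b w) := by
  have := hprim.toIsPretransitive
  obtain ⟨g, rfl⟩ := MulAction.exists_smul_eq G v w
  rw [← kern_map g]
  have e := (kern (G := G) a b v).equivMapOfInjective (MulAut.conj g).toMonoidHom (MulAut.conj g).injective
  exact ⟨fun h => h.of_equiv e, fun h => h.of_equiv e.symm⟩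

variable (hab : stabilizer G a ≠ stabilizer G b)
include hab

/-- Thompson–Wielandt: the kernel is a `p`-group for every prime with `O_p(G_a) ≠ 1`. -/
theorem isPGroup_kern {p : ℕ} [Fact p.Prime] (hp : opCore p (stabilizer G a) ≠ ⊥) :
    IsPGroup p (kern (G := G) a b a) := by
  by_contra hcon
  have hbne : opCore p (stabilizer G b) ≠ ⊥ := fun h => hp (Subgroup.eq_bot_of_card_eq _
    (by rw [card_opCore_eq hprim p a b, h, Subgroup.card_bot]))
  set A := stabilizer G b
  set Z := stabilizer G a
  have harc : Arc (G := G) a b a b := arc_self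
  -- normalisers of the p'-parts
  have hU : ∀ v, Subgroup.normalizer (pPart p (kern (G := G) a b v) : Set G) ≤ stabilizer G v := by
    intro v
    refine normalizer_le_stabilizer hprim ((pPart_le p _).trans (kern_le v))
      (fun g hg => pPart_conj (stab_mem_iff hg)) (pPart_ne_bot ?_)
    rwa [isPGroup_kern_iff hprim p v a]
  have h1 : opCore p A ≤ Z :=
    (le_normalizer_pPart_in (subnormal_kern_head harc) (opCore_le p A)
      (le_normalizer_opCore p A) (opCore_isPGroup p A)).trans (hU a)
  have h2 : opCore p Z ⊓ A ≤ opCore p A := by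
    set X := opCore p Z ⊓ A
    have hXD : X ≤ Z ⊓ A := le_inf (inf_le_left.trans (opCore_le p Z)) inf_le_right
    have hXp : IsPGroup p X := (opCore_isPGroup p Z).to_le inf_le_left
    have hXn : Z ⊓ A ≤ Subgroup.normalizer (X : Set G) := by
      intro g hg
      rw [Subgroup.mem_normalizer_iff]
      intro x
      show x ∈ opCore p Z ∧ x ∈ A ↔ g * x * g⁻¹ ∈ opCore p Z ∧ g * x * g⁻¹ ∈ A
      rw [← Subgroup.mem_normalizer_iff.1 (le_normalizer_opCore p Z hg.1) x,
        ← Subgroup.mem_normalizer_iff.1 (Subgroup.le_normalizer hg.2) x]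
    have hXQ : X ≤ predKern (G := G) a b b := by
      intro x hx
      rw [mem_predKern]
      refine ⟨hx.2, fun u hu => ?_⟩
      exact hU u (le_normalizer_pPart_in (subnormal_kern_inter harc hu) hXD hXn hXp hx)
    exact le_opCore ((SubnormalIn.of_normalizes hXQ
      ((le_inf (predKern_le_of_arc harc) (predKern_le b)).trans hXn)).trans (subnormal_predKern b)) hXp
  have h3 : opCore p Z ≤ opCore p A :=
    le_of_normalizer_le (opCore_isPGroup p A) (opCore_isPGroup p Z)
      (h1.trans (le_normalizer_opCore p Z))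
      (normalizer_le_stabilizer hprim (opCore_le p A) (le_normalizer_opCore p A) hbne) h2
  have heq : opCore p Z = opCore p A :=
    Subgroup.eq_of_le_of_card_ge h3 (card_opCore_eq hprim p b a).le
  apply hab
  refine le_antisymm ((le_normalizer_opCore p Z).trans ?_) ((le_normalizer_opCore p A).trans ?_)
  · rw [heq]; exact normalizer_le_stabilizer hprim (opCore_le p A) (le_normalizer_opCore p A) hbne
  · rw [← heq]; exact normalizer_le_stabilizer hprim (opCore_le p Z) (le_normalizer_opCore p Z) hp

/-- Where the stabiliser has components, one of the two paired kernels is trivial. -/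
theorem kern_eq_bot_or (hE : layerIn (stabilizer G a) ≠ ⊥) :
    kern (G := G) a b a = ⊥ ∨ kern (G := G) b a b = ⊥ := by
  by_contra hcon
  push Not at hcon
  obtain ⟨hP, hP'⟩ := hcon
  have hbne : layerIn (stabilizer G b) ≠ ⊥ := fun h => hE (Subgroup.eq_bot_of_card_eq _
    (by rw [card_layerIn_eq hprim a b, h, Subgroup.card_bot]))
  set A := stabilizer G b
  set Z := stabilizer G a
  have harc : Arc (G := G) a b a b := arc_self
  have hU : ∀ v, Subgroup.normalizer (kern (G := G) a b v : Set G) ≤ stabilizer G v := fun v =>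
    normalizer_le_stabilizer hprim (kern_le v) (le_normalizer_kern v)
      fun h => hP ((kern_eq_bot_iff hprim v a).1 h)
  have hU' : Subgroup.normalizer (kern (G := G) b a b : Set G) ≤ A :=
    normalizer_le_stabilizer hprim (kern_le b) (le_normalizer_kern b) hP'
  have h1 : layerIn Z ≤ A := (layerIn_le_normalizer (subnormal_kern_head arc_self)).trans hU'
  have hXQ : layerIn Z ≤ predKern (G := G) a b b := by
    intro x hx
    rw [mem_predKern]
    refine ⟨h1 hx, fun u hu => ?_⟩
    exact hU u (layerIn_le_normalizer' (subnormal_kern_inter harc hu) inf_le_left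
      (le_inf (layerIn_le Z) h1) hx)
  have h3 : layerIn Z ≤ layerIn A :=
    layerIn_le_layerIn (subnormal_predKern b) (predKern_le_of_arc harc) hXQ
  have heq : layerIn Z = layerIn A :=
    Subgroup.eq_of_le_of_card_ge h3 (card_layerIn_eq hprim b a).le
  apply hab
  refine le_antisymm ((le_normalizer_layerIn Z).trans ?_) ((le_normalizer_layerIn A).trans ?_)
  · rw [heq]; exact normalizer_le_stabilizer hprim (layerIn_le A) (le_normalizer_layerIn A) hbne
  · rw [← heq]; exact normalizer_le_stabilizer hprim (layerIn_le Z) (le_normalizer_layerIn Z) hE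

end Cfsg.Agent.TW
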